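import Cfsg.Agent.FusionComponents.Balance.Mod
import Cfsg.Agent.Fusion.PPrimeResidual

/-!
# The product of a normal subsystem with the underlying group

For `E` over `T` normal in `F`: the system `W F E p` generated by the elements of order prime to `p`
of `AE F E P` at the subgroups `P` in `HT F T`, and the subgroups `P` with largest `N_{PT}(P)` in
their class.
-/

set_option autoImplicit false
set_option linter.unusedSectionVars false

namespace CfsgLib.FusionComponents.Henke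

open Cfsg Cfsg.FusionSystem CfsgLib.Fusion CfsgLib.FusionClosed CfsgLib.FusionComponents

variable {Ω : Type*} [Group Ω] {S T U U' : Subgroup Ω} {F : FusionSystem S} {E : FusionSystem T}
  {P P' Q X : Subgroup Ω} {p : ℕ}

/-- The group generated by the elements of order prime to `p` of `AE F E P`. -/
def K (F : FusionSystem S) (E : FusionSystem T) (p : ℕ) (P : Subgroup Ω) : Subgroup (MulAut P) :=
  coprimeGen p (AE F E P)

/-- The system over `S` generated by the groups `K F E p P` at subgroups in `HT F T`. -/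
def W (F : FusionSystem S) (E : FusionSystem T) (p : ℕ) : FusionSystem S :=
  PPrimeResidual.infSystem F {L | ∀ P, HT F T P → K F E p P ≤ L.autGroup P}

/-- `N_{PT}(P)` is as large as possible in the class of `P`. -/
def Good (F : FusionSystem S) (T P : Subgroup Ω) : Prop :=
  P ≤ S ∧ ∀ Q, F.IsConj P Q →
    Nat.card (normalizerIn (Q ⊔ T) Q) ≤ Nat.card (normalizerIn (P ⊔ T) P)

theorem W_le : (W F E p).IsSubsystemOf F := fun _ _ h => h.1

theorem W_isIso {e : P ≃* Q} (he : IsIso (W F E p) e) : IsIso F e := W_le _ he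

theorem W_isConj (h : (W F E p).IsConj P Q) : F.IsConj P Q := by
  obtain ⟨φ, hφ, hr⟩ := h
  exact ⟨φ, W_le _ hφ, hr⟩

theorem K_le_AE : K F E p P ≤ AE F E P := coprimeGen_le _

theorem K_le_autGroup : K F E p P ≤ F.autGroup P := K_le_AE.trans AE_le_autGroup

theorem K_le_W (hH : HT F T P) : K F E p P ≤ (W F E p).autGroup P := by
  intro k hk
  by_cases hP : P ≤ S
  · exact (mem_autGroup_iff hP).2 ⟨(mem_autGroup_iff hP).1 (K_le_autGroup hk),
      fun L hL => (mem_autGroup_iff hP).1 (hL P hH hk)⟩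
  · have h1 := K_le_autGroup hk
    rw [autGroup_eq_bot hP, Subgroup.mem_bot] at h1
    rw [h1]
    exact one_mem _

theorem le_of_K_le {L : FusionSystem S} (h : ∀ P, HT F T P → K F E p P ≤ L.autGroup P) :
    (W F E p).IsSubsystemOf L := fun _ _ hφ => hφ.2 L h

theorem congr_mem_K (hE : E.IsNormalIn F p) {e : P ≃* P'} (he : IsIso F e) {g : MulAut P}
    (hg : g ∈ K F E p P) : MulAut.congr e g ∈ K F E p P' :=
  map_coprimeGen_le (MulAut.congr e).toMonoidHom (fun _ ha => congr_mem_AE hE he ha) ⟨g, hg, rfl⟩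

variable [Finite S] [Fact p.Prime] (hS : IsPGroup p S) (hE : E.IsNormalIn F p)
include hS hE

/-- The elements of order prime to `p` of the automizers of `W` are in `AE`. -/
theorem mem_AE_of_W (hP : P ≤ S) {α : MulAut P} (hα : α ∈ (W F E p).autGroup P)
    (hαp : (orderOf α).Coprime p) : α ∈ AE F E P := by
  have hT := hE.1.2.2.2.1
  obtain ⟨M, hM⟩ := exists_modSystem (Z := S) hE le_rfl (D := F) fun _ _ h => h
  have hgen : (W F E p).IsSubsystemOf M := le_of_K_le fun X _ => by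
    refine (Subgroup.closure_le _).2 fun g hg => ?_
    by_cases hX : X ≤ S
    · obtain ⟨⟨hgF, hgT, b, hb, hbg⟩, -⟩ := hg
      refine (mem_autGroup_iff hX).2 ((hM X _).2 ⟨(mem_autGroup_iff hX).1 hgF, 1, one_mem S,
        fun x => ?_, _, (mem_autGroup_iff inf_le_right).1 hb, fun x => ?_⟩)
      · simp only [one_mul, inv_one, mul_one]
        exact hgT x
      · simp only [one_mul, inv_one, mul_one]
        exact hbg x
    · have h1 := hg.1.1
      rw [autGroup_eq_bot hX, Subgroup.mem_bot] at h1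
      rw [h1]
      exact one_mem _
  have hαF : IsIso F α := W_isIso ((mem_autGroup_iff hP).1 hα)
  obtain ⟨z, hz, hzT, e, he, hev⟩ := ((hM P _).1 (hgen P ((mem_autGroup_iff hP).1 hα))).2
  have := finite_of_le hP
  obtain ⟨b, hb, hbv⟩ := exists_aut_restrict hαF (inf_le_left : P ⊓ T ≤ P)
    fun x hx => ⟨(α ⟨x, hx.1⟩).2, stronglyClosed_apply hT hαF (x := ⟨x, hx.1⟩) hx.2⟩
  have hbα : Agrees (inf_le_left : P ⊓ T ≤ P) b α := fun x => (hbv x).symm
  exact ⟨hαF.mem_autGroup, tr_of_modT hS hT le_rfl hαp hz hzT, b,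
    mem_autGroup_of_modT hS hE inf_le_right (hbα.coprime hαp) hz he
      fun x => (hbv x).trans (hev x), hbα⟩

theorem mem_K_of_W (hP : P ≤ S) {α : MulAut P} (hα : α ∈ (W F E p).autGroup P)
    (hαp : (orderOf α).Coprime p) : α ∈ K F E p P :=
  mem_coprimeGen (mem_AE_of_W hS hE hP hα hαp) hαp

theorem K_le_J (hP : P ≤ S) (hH : HT F T P) : K F E p P ≤ J F E p P :=
  (Subgroup.closure_le _).2 fun _ h => (Gen.seed hP hH h.1 h.2).mem_J

/-! ### The subgroups `N_{PT}(P)` -/

omit hS in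
theorem NT_le (hP : P ≤ S) : normalizerIn (P ⊔ T) P ≤ normalizerIn S P :=
  inf_le_inf_right _ (sup_le hP hE.1.2.2.2.1.1)

omit hS in
theorem apply_mem_sup {φ : X →* Ω} (hφ : φ ∈ F.Hom X) (hPX : P ≤ X) (x : X)
    (hx : (x : Ω) ∈ P ⊔ T) : φ x ∈ imgHom φ P ⊔ T := by
  have hT := hE.1.2.2.2.1
  obtain ⟨r, hr, t, ht, hrt⟩ := exists_rt hT (hPX.trans (le_left hφ)) hx
  have htX : t ∈ X := by
    rw [← inv_mul_cancel_left r t, hrt]
    exact X.mul_mem (X.inv_mem (hPX hr)) x.2
  rw [show x = ⟨r, hPX hr⟩ * ⟨t, htX⟩ from Subtype.ext hrt.symm, map_mul]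
  exact Subgroup.mul_mem_sup (apply_mem_imgHom φ (x := ⟨r, hPX hr⟩) hr)
    (stronglyClosed_apply hT hφ ht)

omit hS in
theorem apply_mem_NT {φ : X →* Ω} (hφ : φ ∈ F.Hom X) (hPX : P ≤ X) (x : X)
    (hx : (x : Ω) ∈ normalizerIn (P ⊔ T) P) :
    φ x ∈ normalizerIn (imgHom φ P ⊔ T) (imgHom φ P) :=
  ⟨apply_mem_sup hE hφ hPX x hx.1, map_mem_normalizer hPX hx.2⟩

omit hS in
theorem card_NT_le {φ : X →* Ω} (hφ : φ ∈ F.Hom X)
    (hX : normalizerIn (P ⊔ T) P ≤ X) (hQ : imgHom φ P = Q) :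
    Nat.card (normalizerIn (P ⊔ T) P) ≤ Nat.card (normalizerIn (Q ⊔ T) Q) := by
  subst hQ
  have hPX : P ≤ X := (le_normalizerIn le_sup_left).trans hX
  have := finite_of_le ((normalizerIn_le _ _).trans (sup_le (imgHom_le hφ P) hE.1.2.2.2.1.1) :
    normalizerIn (imgHom φ P ⊔ T) (imgHom φ P) ≤ S)
  exact Nat.card_le_card_of_injective
    (fun x : normalizerIn (P ⊔ T) P =>
      (⟨φ ⟨x, hX x.2⟩, apply_mem_NT hE hφ hPX ⟨x, hX x.2⟩ x.2⟩ :
        normalizerIn (imgHom φ P ⊔ T) (imgHom φ P)))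
    fun a b h => Subtype.ext (congrArg Subtype.val (F.injective_of_mem hφ (congrArg Subtype.val h)) :)

theorem good_of_fullyNormalized (h : F.IsFullyNormalized P) : Good F T P := by
  refine ⟨h.1, fun Q hQ => ?_⟩
  obtain ⟨ha, hr⟩ := automized_receptive hS hE.1.2.1 h
  obtain ⟨χ, hχ, -, himg⟩ := exists_map_normalizerIn hS ha hr (isConj_symm hQ)
  exact card_NT_le hE hχ (NT_le hE (le_of_isConj_right hQ)) himg

omit hS hE in
omit [Finite S] [Fact p.Prime] in
theorem Good.of_card (h : Good F T P) (hc : F.IsConj P Q)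
    (hle : Nat.card (normalizerIn (P ⊔ T) P) ≤ Nat.card (normalizerIn (Q ⊔ T) Q)) :
    Good F T Q :=
  ⟨le_of_isConj_right hc, fun X hX => (h.2 X (isConj_trans hc hX)).trans hle⟩

/-- The isomorphism of `N_{PT}(P)` with that of a fully normalized conjugate. -/
theorem exists_NT_iso (hP : Good F T P) (hP' : F.IsFullyNormalized P') (hc : F.IsConj P P') :
    ∃ (e : P ≃* P') (χ : normalizerIn (P ⊔ T) P ≃* normalizerIn (P' ⊔ T) P'),
      IsIso F e ∧ IsIso F χ ∧
        ∀ x : P, (χ ⟨x, le_normalizerIn le_sup_left x.2⟩ : Ω) = e x := by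
  obtain ⟨ha, hr⟩ := automized_receptive hS hE.1.2.1 hP'
  obtain ⟨φ, hφ, -, himg⟩ := exists_map_normalizerIn hS ha hr hc
  have hle := NT_le hE (T := T) hP.1
  have hψ := restrict_mem hφ hle
  have hPN : P ≤ normalizerIn (P ⊔ T) P := le_normalizerIn le_sup_left
  have himg' : imgHom (restrictHom φ hle) P = P' := (SatCriterion.imgHom_congr (ψ := φ) hPN
    (hPN.trans hle) fun x hx => rfl).trans himg
  obtain ⟨e, he, hev⟩ := Fusion.exists_iso (restrict_mem hψ hPN)
    ((range_restrictHom _ hPN).trans himg')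
  obtain ⟨χ, hχ, hχv⟩ := Fusion.exists_iso hψ (Q := normalizerIn (P' ⊔ T) P') (by
    have := finite_of_le ((NT_le hE hP'.1).trans (normalizerIn_le S P'))
    refine Subgroup.eq_of_le_of_card_ge ?_ ?_
    · rintro _ ⟨x, rfl⟩
      exact himg' ▸ apply_mem_NT hE hψ hPN x x.2
    · rw [← imgHom_self, card_imgHom (F.injective_of_mem hψ) le_rfl]
      exact hP.2 P' hc)
  exact ⟨e, χ, he, hχ, fun x => (hχv _).trans (hev x).symm⟩

omit hS hE in
omit [Finite S] [Fact p.Prime] in
/-- Transport of induced automorphisms along agreeing isomorphisms. -/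
theorem congr_of_agree {e : P ≃* P'} {χ : U ≃* U'} (hPU : P ≤ U)
    (hv : ∀ x : P, (χ ⟨x, hPU x.2⟩ : Ω) = e x) {x : U} {c : MulAut P}
    (hc : ∀ r : P, (c r : Ω) = x * r * (x : Ω)⁻¹) (r : P') :
    (MulAut.congr e c r : Ω) = χ x * r * (χ x : Ω)⁻¹ := by
  obtain ⟨q, rfl⟩ := e.surjective r
  rw [congr_apply, ← hv, ← hv q, ← Subgroup.coe_inv, ← Subgroup.coe_mul, ← Subgroup.coe_mul,
    ← map_inv, ← map_mul, ← map_mul]
  exact congrArg (fun w => (χ w : Ω)) (Subtype.ext (hc q))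

omit hS hE in
omit [Finite S] [Fact p.Prime] in
theorem agree_symm {e : P ≃* P'} {χ : U ≃* U'} (hPU : P ≤ U) (hP'U : P' ≤ U')
    (hv : ∀ x : P, (χ ⟨x, hPU x.2⟩ : Ω) = e x) (y : P') :
    (χ.symm ⟨y, hP'U y.2⟩ : Ω) = e.symm y := by
  rw [show (⟨(y : Ω), hP'U y.2⟩ : U') = χ ⟨e.symm y, hPU (e.symm y).2⟩ from Subtype.ext (by
    rw [hv, MulEquiv.apply_symm_apply]), MulEquiv.symm_apply_apply]

omit hS in
theorem congr_mem_autNT {e : P ≃* P'} {χ : normalizerIn (P ⊔ T) P ≃* normalizerIn (P' ⊔ T) P'}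
    (hv : ∀ x : P, (χ ⟨x, le_normalizerIn le_sup_left x.2⟩ : Ω) = e x) {c : MulAut P}
    (hc : c ∈ autInducedBy (P ⊔ T) P) : MulAut.congr e c ∈ autInducedBy (P' ⊔ T) P' := by
  obtain ⟨x, hx, hxN, hxv⟩ := mem_autInducedBy_iff.1 hc
  exact Subgroup.subset_closure ⟨χ ⟨x, hx, hxN⟩, (χ _).2.1,
    congr_of_agree _ hv (x := ⟨x, hx, hxN⟩) hxv⟩

/-- `Aut_{PT}(P)` is a Sylow subgroup of `J P` at good subgroups. -/
theorem isSylowIn_J_good (hP : Good F T P) :
    IsSylowIn p (J F E p P) (autInducedBy (P ⊔ T) P) := by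
  obtain ⟨P', hc, hP'⟩ := exists_fullyNormalized (F := F) hP.1
  obtain ⟨e, χ, he, -, hv⟩ := exists_NT_iso hS hE hP hP' hc
  have := finite_of_le hP.1
  have := finite_mulAut (V := P)
  refine (isSylowIn_map_iff (f := (MulAut.congr e).toMonoidHom) (MulAut.congr e).injective
    (autRT_le_J hS hE hP.1)).1 ?_
  rw [show (J F E p P).map (MulAut.congr e).toMonoidHom = J F E p P' from
      le_antisymm (by rintro _ ⟨a, ha, rfl⟩; exact congr_mem_J he ha)
        fun a ha => ⟨MulAut.congr e.symm a, congr_mem_J he.symm ha,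
          (MulAut.congr e).apply_symm_apply a⟩,
    show (autInducedBy (P ⊔ T) P).map (MulAut.congr e).toMonoidHom = autInducedBy (P' ⊔ T) P' from
      le_antisymm (by rintro _ ⟨a, ha, rfl⟩; exact congr_mem_autNT hE hv ha)
        fun a ha => ⟨MulAut.congr e.symm a,
          congr_mem_autNT hE (agree_symm _ (le_normalizerIn le_sup_left) hv) ha,
          (MulAut.congr e).apply_symm_apply a⟩]
  exact isSylowIn_J hS hE hP'

end CfsgLib.FusionComponents.Henke
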