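import Cfsg.Agent.FusionComponents.Henke.Basic

/-!
# Extensions of elements of order prime to `p`

At a good subgroup in `HT F T`, an element of order prime to `p` of `AE F E R` normalizing a group
`Z` of automorphisms induced by `S` extends to a map of `W F E p` on the subgroup inducing `Z`.
-/

set_option autoImplicit false
set_option linter.unusedSectionVars false

namespace CfsgLib.FusionComponents.Henke

open Cfsg Cfsg.FusionSystem CfsgLib.Fusion CfsgLib.FusionClosed CfsgLib.FusionComponents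

variable {Ω : Type*} [Group Ω] {S T : Subgroup Ω} {F : FusionSystem S} {E : FusionSystem T}
  {R : Subgroup Ω} {p : ℕ}

/-- Powers of an automorphism which is conjugation by `z` modulo `T`. -/
theorem mod_pow (hT : F.StronglyClosed T) {P : Subgroup Ω} {α : MulAut P} {z : Ω} (hz : z ∈ S)
    (hv : ∀ x : P, (z * (x : Ω) * z⁻¹)⁻¹ * (α x : Ω) ∈ T) :
    ∀ (n : ℕ) (x : P), (z ^ n * (x : Ω) * (z ^ n)⁻¹)⁻¹ * ((α ^ n) x : Ω) ∈ T := by
  intro n
  induction n with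
  | zero => intro x; simp
  | succ n ih =>
    intro x
    rw [pow_succ' α, MulAut.mul_apply, pow_succ' z]
    rw [show (z * z ^ n * (x : Ω) * (z * z ^ n)⁻¹)⁻¹ * (α ((α ^ n) x) : Ω) =
      z * ((z ^ n * (x : Ω) * (z ^ n)⁻¹)⁻¹ * ((α ^ n) x : Ω)) * z⁻¹ *
        ((z * ((α ^ n) x : Ω) * z⁻¹)⁻¹ * (α ((α ^ n) x) : Ω)) by group]
    exact mul_mem (FusionFactor.conj_mem_of_stronglyClosed hT hz (ih x)) (hv _)

variable [Finite S] [Fact p.Prime] (hS : IsPGroup p S) (hE : E.IsNormalIn F p)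
include hS hE

/-- **Elements of order prime to `p` extend.** -/
theorem exists_ext (hR : Good F T R) (hH : HT F T R) {g : MulAut R} (hg : g ∈ AE F E R)
    (hgp : (orderOf g).Coprime p) {Z : Subgroup (MulAut R)} (hI : Inn R ≤ Z)
    (hZ : Z ≤ autInducedBy S R) (hgZ : ∀ z ∈ Z, g * z * g⁻¹ ∈ Z) :
    ∃ hle : R ≤ kNormalizer S R Z, ∃ β ∈ (W F E p).autGroup (kNormalizer S R Z),
      (orderOf β).Coprime p ∧ Agrees hle g β := by
  have hF := hE.1.2.1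
  have hT := hE.1.2.2.2.1
  have hRk : R ≤ kNormalizer S R Z := le_kNormalizer hR.1 hI
  refine ⟨hRk, ?_⟩
  obtain ⟨R', hc, hR', hR'₀⟩ := exists_goodRep hS hF hT hR.1
  obtain ⟨ha, hr⟩ := automized_receptive hS hF hR'
  obtain ⟨χ, hχ, hχN, himg⟩ := exists_map_normalizerIn hS ha hr hc
  have hRN : R ≤ normalizerIn S R := le_normalizerIn hR.1
  obtain ⟨e, he, hev⟩ := Fusion.exists_iso (restrict_mem hχ hRN)
    ((range_restrictHom χ hRN).trans himg)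
  have hkN : kNormalizer S R Z ≤ normalizerIn S R := kNormalizer_le_normalizerIn Z
  obtain ⟨eM, heM, heMv⟩ := exists_iso_restrict hχ hkN
  have hR'M : R' ≤ imgHom χ (kNormalizer S R Z) := himg ▸ imgHom_mono χ hRk
  have hMN : imgHom χ (kNormalizer S R Z) ≤ normalizerIn S R' := by
    rintro _ ⟨x, -, rfl⟩
    exact hχN x
  have hNTimg : imgHom χ (normalizerIn (R ⊔ T) R) = normalizerIn (R' ⊔ T) R' := by
    have := finite_of_le ((NT_le hE (T := T) hR'.1).trans (normalizerIn_le S R'))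
    refine Subgroup.eq_of_le_of_card_ge ?_ ?_
    · rintro _ ⟨x, hx, rfl⟩
      exact himg ▸ apply_mem_NT hE hχ hRN x hx
    · rw [card_imgHom (F.injective_of_mem hχ) (NT_le hE hR.1)]
      exact hR.2 R' hc
  have hχmem : ∀ t₀ (ht₀ : t₀ ∈ kNormalizer S R Z), χ ⟨t₀, hkN ht₀⟩ ∈
      imgHom χ (kNormalizer S R Z) := fun t₀ ht₀ => apply_mem_imgHom χ (x := ⟨t₀, hkN ht₀⟩) ht₀
  generalize hMd : imgHom χ (kNormalizer S R Z) = M at eM heM heMv hR'M hMN hχmem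
  have hve : ∀ x : R, (eM ⟨x, hRk x.2⟩ : Ω) = e x := fun x => (heMv _).trans (hev x).symm
  have hMS : M ≤ S := heM.le_right
  have hAutM : autInducedBy M R' = Z.map (MulAut.congr e).toMonoidHom := by
    refine le_antisymm (fun c hc => ?_) ?_
    · obtain ⟨m, hm, -, hmv⟩ := mem_autInducedBy_iff.1 hc
      obtain ⟨x, hx⟩ := eM.surjective ⟨m, hm⟩
      obtain ⟨-, z, hz, hzv⟩ := mem_kNormalizer.1 x.2
      refine ⟨z, hz, MulEquiv.ext fun r => Subtype.ext ?_⟩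
      refine (congr_of_agree hRk hve hzv r).trans ?_
      rw [show (eM x : Ω) = m from congrArg Subtype.val hx]
      exact (hmv r).symm
    · rintro _ ⟨z, hz, rfl⟩
      obtain ⟨x, hx, -, hxv⟩ := mem_autInducedBy_iff.1 (hZ hz)
      exact Subgroup.subset_closure ⟨eM ⟨x, mem_kNormalizer.2 ⟨hx, z, hz, hxv⟩⟩, Subtype.mem _,
        congr_of_agree hRk hve (x := ⟨x, mem_kNormalizer.2 ⟨hx, z, hz, hxv⟩⟩) hxv⟩
  obtain ⟨g', hg'd⟩ : ∃ g', g' = MulAut.congr e g := ⟨_, rfl⟩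
  have hg' : g' ∈ AE F E R' := hg'd ▸ congr_mem_AE hE he hg
  have hg'p : (orderOf g').Coprime p := by
    rwa [hg'd, show orderOf (MulAut.congr e g) = orderOf g from
      orderOf_injective (MulAut.congr e).toMonoidHom (MulAut.congr e).injective g]
  have hgM : ∀ z ∈ autInducedBy M R', g' * z * g'⁻¹ ∈ autInducedBy M R' := by
    rw [hAutM]
    rintro _ ⟨z, hz, rfl⟩
    refine ⟨g * z * g⁻¹, hgZ z hz, ?_⟩
    rw [hg'd]
    show MulAut.congr e (g * z * g⁻¹) = MulAut.congr e g * MulAut.congr e z * _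
    rw [map_mul, map_mul, map_inv]
  have hH' : HT F T R' := hH.of_isConj hT hc
  obtain ⟨φ, hφ, -, hφT, a, κ, hav, hgak, y, hy, -, hyv⟩ :=
    exists_ext_mod_map hS hE hR' hR'₀ hH' hg' hg'p hR'M hMN hgM
  obtain ⟨M', hM'⟩ : ∃ M', M' = M ⊔ centralizerIn S (R' ⊓ T) := ⟨_, rfl⟩
  subst hM'
  have hM'S : M ⊔ centralizerIn S (R' ⊓ T) ≤ S := sup_le hMS (centralizerIn_le _ _)
  have := finite_of_le hM'S
  have := finite_mulAut (V := M ⊔ centralizerIn S (R' ⊓ T))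
  obtain ⟨cy, hcyd⟩ : ∃ cy : MulAut ↥(M ⊔ centralizerIn S (R' ⊓ T)),
      cy = MulAut.conj ⟨y, Subgroup.mem_sup_right hy⟩ := ⟨_, rfl⟩
  obtain ⟨φ₁, hφ₁d⟩ : ∃ φ₁, φ₁ = φ * cy⁻¹ := ⟨_, rfl⟩
  have hφ₁v : ∀ x, φ₁ x = φ ((⟨y, Subgroup.mem_sup_right hy⟩ :
      ↥(M ⊔ centralizerIn S (R' ⊓ T)))⁻¹ * x * ⟨y, Subgroup.mem_sup_right hy⟩) := fun x => by
    rw [hφ₁d, hcyd]
    simp
  have hφ₁F : φ₁ ∈ F.autGroup _ :=
    hφ₁d ▸ mul_mem hφ (inv_mem (Inn_le_autGroup hM'S (hcyd ▸ ⟨_, rfl⟩)))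
  have hR'M' : R' ≤ M ⊔ centralizerIn S (R' ⊓ T) := hR'M.trans le_sup_left
  have hag₁ : Agrees hR'M' g' φ₁ := fun r => by
    have hκ : ((κ⁻¹ r : R') : Ω) = y⁻¹ * (r : Ω) * y := by
      have h1 := hyv (κ⁻¹ r)
      rw [MulAut.apply_inv_self] at h1
      rw [h1]
      group
    rw [hφ₁v, hgak, MulAut.mul_apply, ← hav (κ⁻¹ r) (hR'M' (Subtype.mem _))]
    exact congrArg (fun w => (φ w : Ω)) (Subtype.ext hκ.symm)
  obtain ⟨k, hkp, hkg⟩ := FusionLayer.exists_coprime_pow hg'p φ₁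
  have hag : Agrees hR'M' g' (φ₁ ^ k) := by
    have h1 := hag₁.pow k
    rwa [hkg] at h1
  have hmod := mod_pow (F := F) hT (α := φ₁) (S.inv_mem hy.1) fun x => by
    rw [hφ₁v, inv_inv]
    exact hφT ((⟨y, Subgroup.mem_sup_right hy⟩ :
      ↥(M ⊔ centralizerIn S (R' ⊓ T)))⁻¹ * x * ⟨y, Subgroup.mem_sup_right hy⟩)
  have htr : Tr T (φ₁ ^ k) :=
    tr_of_modT hS hT le_rfl hkp (pow_mem (S.inv_mem hy.1) k) (hmod k)
  have hψF : φ₁ ^ k ∈ F.autGroup _ := pow_mem hφ₁F k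
  generalize φ₁ ^ k = ψ at hkp hag htr hψF
  -- `ψ` preserves `M`
  have hmem : ∀ x (hx : x ∈ M), (ψ ⟨x, Subgroup.mem_sup_left hx⟩ : Ω) ∈ M := by
    intro x hx
    obtain ⟨x', hx'⟩ : ∃ x', x' = (ψ ⟨x, Subgroup.mem_sup_left hx⟩ : Ω) := ⟨_, rfl⟩
    rw [← hx']
    have hxN := (hMN hx).2
    have hzM : R'.normalizerMonoidHom ⟨x, hxN⟩ ∈ autInducedBy M R' :=
      mem_autInducedBy_iff.2 ⟨x, hx, hxN, fun _ => rfl⟩
    have hind : ∀ r : R', ((g' * R'.normalizerMonoidHom ⟨x, hxN⟩ * g'⁻¹) r : Ω) =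
        x' * r * x'⁻¹ := fun r => by
      obtain ⟨q, rfl⟩ := g'.surjective r
      rw [MulAut.mul_apply, MulAut.mul_apply, MulAut.inv_apply_self, hx', ← hag q,
        ← hag (R'.normalizerMonoidHom ⟨x, hxN⟩ q), ← Subgroup.coe_inv, ← Subgroup.coe_mul,
        ← Subgroup.coe_mul, ← map_inv, ← map_mul, ← map_mul]
      exact congrArg (fun w => (ψ w : Ω)) (Subtype.ext rfl)
    have hx'N : x' ∈ Subgroup.normalizer (R' : Set Ω) := by
      have := finite_of_le hR'.1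
      exact SatCriterion.mem_normalizer_of_finite fun r hr => hind ⟨r, hr⟩ ▸ Subtype.mem _
    have htT : x⁻¹ * x' ∈ T := hx' ▸ htr ⟨x, Subgroup.mem_sup_left hx⟩
    have htN : x⁻¹ * x' ∈ normalizerIn (R' ⊔ T) R' :=
      ⟨Subgroup.mem_sup_right htT, Subgroup.mul_mem _ (Subgroup.inv_mem _ hxN) hx'N⟩
    have hcZ : R'.normalizerMonoidHom ⟨_, htN.2⟩ ∈ autInducedBy M R' := by
      rw [show R'.normalizerMonoidHom ⟨_, htN.2⟩ = (R'.normalizerMonoidHom ⟨x, hxN⟩)⁻¹ *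
          (g' * R'.normalizerMonoidHom ⟨x, hxN⟩ * g'⁻¹) from MulEquiv.ext fun r => by
        apply (R'.normalizerMonoidHom ⟨x, hxN⟩).injective
        show R'.normalizerMonoidHom ⟨x, hxN⟩ _ =
          R'.normalizerMonoidHom ⟨x, hxN⟩ ((R'.normalizerMonoidHom ⟨x, hxN⟩)⁻¹ _)
        rw [MulAut.apply_inv_self]
        refine Subtype.ext (Eq.trans ?_ (hind r).symm)
        show x * (x⁻¹ * x' * (r : Ω) * (x⁻¹ * x')⁻¹) * x⁻¹ = _
        group]
      exact mul_mem (inv_mem hzM) (hgM _ hzM)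
    rw [hAutM] at hcZ
    obtain ⟨z, hz, hzv⟩ := hcZ
    obtain ⟨⟨t₀, ht₀N⟩, -, ht₀v⟩ := hNTimg.ge htN
    have ht₀k : t₀ ∈ kNormalizer S R Z := mem_kNormalizer.2 ⟨ht₀N.1, z, hz, fun r => by
      have h1 : (MulAut.congr e z (e r) : Ω) = x⁻¹ * x' * e r * (x⁻¹ * x')⁻¹ := by
        rw [show MulAut.congr e z = R'.normalizerMonoidHom ⟨_, htN.2⟩ from hzv]
        rfl
      rw [congr_apply, hev, hev, ← ht₀v, restrictHom_apply, restrictHom_apply, ← map_inv,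
        ← map_mul, ← map_mul] at h1
      exact congrArg Subtype.val (F.injective_of_mem hχ h1)⟩
    have htM : x⁻¹ * x' ∈ M := ht₀v ▸ hχmem t₀ ht₀k
    have := M.mul_mem hx htM
    rwa [mul_inv_cancel_left] at this
  obtain ⟨b, hbF, hbv⟩ := exists_aut_restrict ((mem_autGroup_iff hM'S).1 hψF) le_sup_left hmem
  have hbψ : Agrees le_sup_left b ψ := fun x => (hbv x).symm
  have hbp : (orderOf b).Coprime p := hbψ.coprime hkp
  have hbg : Agrees hR'M g' b := fun r => (hbv _).trans (hag r)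
  obtain ⟨b₁, hb₁, hb₁v⟩ := hg'.2.2
  have hbT : ∀ x : M, (x : Ω) ∈ T → (b x : Ω) ∈ T := fun x hx =>
    stronglyClosed_apply hT ((mem_autGroup_iff hMS).1 hbF) hx
  have := finite_of_le hMS
  obtain ⟨b₀, hb₀, hb₀v⟩ := exists_aut_restrict ((mem_autGroup_iff hMS).1 hbF)
    (inf_le_left : M ⊓ T ≤ M) fun x hx => ⟨(b ⟨x, hx.1⟩).2, hbT ⟨x, hx.1⟩ hx.2⟩
  have hb₀b : Agrees (inf_le_left : M ⊓ T ≤ M) b₀ b := fun x => (hb₀v x).symm
  have hb₀E : b₀ ∈ E.autGroup (M ⊓ T) :=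
    aut_mem_of_restrict hS hE (inf_le_inf_right T hR'M) inf_le_right
      (fun x hx => normalizerIn_le_normalizer_inf hT (hMN hx.1)) hH' hb₀ (hb₀b.coprime hbp) hb₁
      fun x => (hb₀v ⟨x, inf_le_inf_right T hR'M x.2⟩).trans
        ((hbg ⟨x, x.2.1⟩).trans (hb₁v x))
  have hbA : b ∈ AE F E M := ⟨hbF, fun x => by
    rw [show (b x : Ω) = (ψ ⟨x, Subgroup.mem_sup_left x.2⟩ : Ω) from hbv x]
    exact htr ⟨x, Subgroup.mem_sup_left x.2⟩, b₀, hb₀E, hb₀b⟩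
  have hvs : ∀ r : R', (eM.symm ⟨r, hR'M r.2⟩ : Ω) = e.symm r := agree_symm hRk hR'M hve
  refine ⟨MulAut.congr eM.symm b,
    K_le_W (hH.of_le hT hRk) (mem_coprimeGen (congr_mem_AE hE heM.symm hbA) ?_), ?_, ?_⟩
  · rwa [show orderOf (MulAut.congr eM.symm b) = orderOf b from
      orderOf_injective (MulAut.congr eM.symm).toMonoidHom (MulAut.congr eM.symm).injective b]
  · rwa [show orderOf (MulAut.congr eM.symm b) = orderOf b from
      orderOf_injective (MulAut.congr eM.symm).toMonoidHom (MulAut.congr eM.symm).injective b]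
  · have h1 := hbg.congr (h' := hRk) (e := eM.symm) (e₀ := e.symm) fun r => (hvs r).symm
    rwa [hg'd, congr_symm_congr] at h1

/-! ### Alperin's argument -/

theorem goodExt_of_normalizer (hR : Good F T R) (hH : HT F T R) {Z : Subgroup (MulAut R)}
    (hI : Inn R ≤ Z) (hZ : Z ≤ autInducedBy S R)
    (hsyl : IsSylowIn p ((W F E p).autGroup R ⊓ Subgroup.normalizer (Z : Set (MulAut R)))
      (normalizerIn (autInducedBy S R) Z))
    {g : MulAut R} (hg : g ∈ (W F E p).autGroup R)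
    (hgN : g ∈ Subgroup.normalizer (Z : Set (MulAut R))) :
    GoodExt (W F E p) g Z := by
  classical
  have hRS := hR.1
  have := finite_of_le hRS
  have := finite_mulAut (V := R)
  obtain ⟨V, hV⟩ : ∃ V, V = W F E p := ⟨_, rfl⟩
  rw [← hV] at hsyl hg ⊢
  obtain ⟨H₀, hH₀⟩ : ∃ H₀, H₀ = V.autGroup R ⊓ Subgroup.normalizer (Z : Set (MulAut R)) :=
    ⟨_, rfl⟩
  rw [← hH₀] at hsyl
  have hone : GoodExt V 1 Z := ⟨_, subtype_mem (kNormalizer_le Z), fun _ _ => rfl⟩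
  have hmul : ∀ {a b : MulAut R}, a ∈ H₀ → GoodExt V a Z → b ∈ H₀ → GoodExt V b Z →
      GoodExt V (a * b) Z := fun {a b} _ ha hb hb' => hb'.comp hRS hI hI ha fun z hz =>
    (Subgroup.mem_normalizer_iff.1 (Subgroup.mem_inf.1 (hH₀ ▸ hb : _ ∈ _ ⊓ _)).2 z).1 hz
  let Gd : Subgroup (MulAut R) :=
    { carrier := {a | a ∈ H₀ ∧ GoodExt V a Z}
      one_mem' := ⟨one_mem _, hone⟩
      mul_mem' := fun ha hb => ⟨mul_mem ha.1 hb.1, hmul ha.1 ha.2 hb.1 hb.2⟩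
      inv_mem' := fun {a} ha => by
        have hpow : ∀ k : ℕ, a ^ k ∈ H₀ ∧ GoodExt V (a ^ k) Z := by
          intro k
          induction k with
          | zero => rw [pow_zero]; exact ⟨one_mem _, hone⟩
          | succ k ih => rw [pow_succ]; exact ⟨mul_mem ih.1 ha.1, hmul ih.1 ih.2 ha.1 ha.2⟩
        have e : a⁻¹ = a ^ (orderOf a - 1) := inv_eq_of_mul_eq_one_right (by
          rw [← pow_succ', Nat.sub_add_cancel (orderOf_pos a), pow_orderOf_eq_one])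
        rw [e]
        exact hpow _ }
  suffices hle : H₀ ≤ Gd from (hle (hH₀ ▸ ⟨hg, hgN⟩)).2
  obtain ⟨P, hP⟩ := hsyl
  have htop := congrArg (Subgroup.map H₀.subtype) (CfsgLib.Transfer.sylow_sup_pResidual P)
  rw [Subgroup.map_sup, ← MonoidHom.range_eq_map, Subgroup.range_subtype] at htop
  refine htop.ge.trans (sup_le ?_ ?_)
  · rw [hP, Subgroup.subgroupOf_map_subtype]
    intro a ha
    obtain ⟨ha₁, ha₂⟩ := Subgroup.mem_inf.1 ha
    obtain ⟨d, hd, -, hdv⟩ := mem_autInducedBy_iff.1 (normalizerIn_le _ _ ha₁)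
    exact ⟨ha₂, _, V.conj_mem (kNormalizer_le Z) hd, fun x hx => (hdv x).symm⟩
  rw [pResidual, MonoidHom.map_closure, Subgroup.closure_le]
  rintro _ ⟨a, ha, rfl⟩
  have hac : (orderOf (a : MulAut R)).Coprime p := by rwa [Subgroup.orderOf_coe]
  obtain ⟨haW, haN⟩ : (a : MulAut R) ∈ V.autGroup R ∧
      (a : MulAut R) ∈ Subgroup.normalizer (Z : Set (MulAut R)) :=
    Subgroup.mem_inf.1 (hH₀ ▸ a.2)
  obtain ⟨hRW, β, hβ, -, hβv⟩ := exists_ext hS hE hR hH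
    (mem_AE_of_W hS hE hRS (hV ▸ haW) hac) hac hI hZ
    fun z hz => (Subgroup.mem_normalizer_iff.1 haN z).1 hz
  exact ⟨a.2, _, (mem_autGroup_iff (kNormalizer_le Z)).1 (hV ▸ hβ), fun x hx => hβv x⟩

/-- **Elements carrying `Z` into `Aut_S(R)` extend.** -/
theorem exists_goodExt (hR : Good F T R) (hH : HT F T R)
    (hsyl : IsSylowIn p ((W F E p).autGroup R) (autInducedBy S R))
    {γ : MulAut R} (hγ : γ ∈ (W F E p).autGroup R)
    {Z : Subgroup (MulAut R)} (hI : Inn R ≤ Z) (hZ : Z ≤ autInducedBy S R)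
    (hγZ : ∀ z ∈ Z, γ * z * γ⁻¹ ∈ autInducedBy S R) :
    GoodExt (W F E p) γ Z := by
  have hRS := hR.1
  have := finite_of_le hRS
  have := finite_mulAut (V := R)
  obtain ⟨G, hG⟩ : ∃ G, G = (W F E p).autGroup R := ⟨_, rfl⟩
  obtain ⟨P₀, hP₀⟩ : ∃ P₀, P₀ = autInducedBy S R := ⟨_, rfl⟩
  rw [← hP₀] at hZ hγZ hsyl
  rw [← hG] at hγ hsyl
  have hP₀G : P₀ ≤ G := hP₀ ▸ hG ▸ autInducedBy_le_autGroup hRS
  have hP₀p : IsPGroup p P₀ := hP₀ ▸ isPGroup_autInducedBy hS R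
  have hnorm : ∀ {Z : Subgroup (MulAut R)}, Inn R ≤ Z → Z ≤ P₀ →
      IsSylowIn p (G ⊓ Subgroup.normalizer (Z : Set (MulAut R))) (normalizerIn P₀ Z) →
      ∀ {g : MulAut R}, g ∈ G → g ∈ Subgroup.normalizer (Z : Set (MulAut R)) →
        GoodExt (W F E p) g Z := fun {Z} hI hZ hs {g} hg hgN =>
    goodExt_of_normalizer hS hE hR hH hI (hP₀ ▸ hZ) (hP₀ ▸ hG ▸ hs) (hG ▸ hg) hgN
  induction hd : Nat.card P₀ - Nat.card Z using Nat.strong_induction_on generalizing γ Z with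
  | _ d ih =>
  rcases hZ.eq_or_lt with hZP | hlt
  · subst hZP
    refine hnorm hI le_rfl ?_ hγ (SatCriterion.mem_normalizer_of_finite fun z hz => hγZ z hz)
    rw [show normalizerIn Z Z = Z from le_antisymm (normalizerIn_le _ _) (le_normalizerIn le_rfl)]
    exact hsyl.mono (le_inf hP₀G Subgroup.le_normalizer) inf_le_left
  -- a conjugate with the largest normalizer
  obtain ⟨Z₀, ⟨hZ₀P, g₀, hg₀, rfl⟩, hmax⟩ := Set.exists_max_image
    {K : Subgroup (MulAut R) | K ≤ P₀ ∧ ∃ g ∈ G, Z.map (MulAut.conj g).toMonoidHom = K}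
    (fun K => Nat.card (normalizerIn P₀ K)) (Set.toFinite _)
    ⟨Z, hZ, 1, one_mem _, map_conj_eq_of_mem (one_mem _)⟩
  obtain ⟨Z₀, hZ₀⟩ : ∃ Z₀, Z₀ = Z.map (MulAut.conj g₀).toMonoidHom := ⟨_, rfl⟩
  rw [← hZ₀] at hZ₀P hmax
  obtain ⟨H₀, hH₀⟩ : ∃ H₀, H₀ = G ⊓ Subgroup.normalizer (Z₀ : Set (MulAut R)) := ⟨_, rfl⟩
  have hKH : normalizerIn P₀ Z₀ ≤ H₀ := hH₀ ▸ inf_le_inf_right _ hP₀G
  obtain ⟨K', hK'H, hKK', hK'p, hK'⟩ :=
    SatCriterion.exists_sylowIn_ge hKH (hP₀p.to_le (normalizerIn_le _ _))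
  obtain ⟨a, ha, haK⟩ := hsyl.exists_conj (hK'H.trans (hH₀ ▸ inf_le_left)) hK'p
  have hconj : ∀ (g g' : MulAut R) (K : Subgroup (MulAut R)),
      (K.map (MulAut.conj g).toMonoidHom).map (MulAut.conj g').toMonoidHom =
        K.map (MulAut.conj (g' * g)).toMonoidHom := fun g g' K => by
    rw [Subgroup.map_map]
    exact congrArg (fun m => K.map m) (MonoidHom.ext fun x => by simp [mul_assoc])
  have hKeq : normalizerIn P₀ Z₀ = K' := by
    refine Subgroup.eq_of_le_of_card_ge hKK' ?_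
    refine le_trans ?_ (hmax (Z₀.map (MulAut.conj a).toMonoidHom) ⟨?_, a * g₀, mul_mem ha hg₀, ?_⟩)
    · refine card_le_of_conj_mem (a := a) fun k hk => ⟨haK k hk, ?_⟩
      refine SatCriterion.mem_normalizer_of_finite ?_
      rintro _ ⟨z, hz, rfl⟩
      refine ⟨k * z * k⁻¹, ?_, by simp [mul_assoc]⟩
      exact (Subgroup.mem_normalizer_iff.1 (Subgroup.mem_inf.1 (hH₀ ▸ hK'H hk : k ∈ _ ⊓ _)).2 z).1 hz
    · rintro _ ⟨z, hz, rfl⟩
      exact haK z (hKK' (le_normalizerIn hZ₀P hz))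
    · rw [hZ₀, hconj]
  have hK : IsSylowIn p H₀ (normalizerIn P₀ Z₀) := hKeq ▸ hK'
  have hmove : ∀ (Z₁ : Subgroup (MulAut R)) (g₁ : MulAut R), g₁ ∈ G →
      Z₁.map (MulAut.conj g₁).toMonoidHom = Z₀ → ∃ g ∈ G,
        Z₁.map (MulAut.conj g).toMonoidHom = Z₀ ∧
        ∀ x ∈ normalizerIn P₀ Z₁, g * x * g⁻¹ ∈ normalizerIn P₀ Z₀ := by
    intro Z₁ g₁ hg₁ he
    obtain ⟨b, hb, hbX⟩ := hK.exists_conj
      (X := (normalizerIn P₀ Z₁).map (MulAut.conj g₁).toMonoidHom)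
      (by
        rintro _ ⟨x, hx, rfl⟩
        refine hH₀ ▸ ⟨G.mul_mem (G.mul_mem hg₁ (hP₀G hx.1)) (G.inv_mem hg₁), ?_⟩
        refine SatCriterion.mem_normalizer_of_finite ?_
        intro y hy
        rw [← he] at hy ⊢
        obtain ⟨z, hz, rfl⟩ := hy
        exact ⟨x * z * x⁻¹, (Subgroup.mem_normalizer_iff.1 hx.2 z).1 hz, by simp [mul_assoc]⟩)
      ((hP₀p.to_le (normalizerIn_le _ _)).map _)
    obtain ⟨hbG, hbN⟩ := Subgroup.mem_inf.1 (hH₀ ▸ hb : b ∈ _ ⊓ _)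
    refine ⟨b * g₁, mul_mem hbG hg₁, ?_, fun x hx => ?_⟩
    · rw [← hconj, he, map_conj_eq_of_mem hbN]
    · have := hbX _ ⟨x, hx, rfl⟩
      simpa [mul_assoc] using this
  obtain ⟨Z', hZ'⟩ : ∃ Z', Z' = Z.map (MulAut.conj γ).toMonoidHom := ⟨_, rfl⟩
  have hZ'P : Z' ≤ P₀ := by
    rw [hZ']
    rintro _ ⟨z, hz, rfl⟩
    exact hγZ z hz
  obtain ⟨g, hg, hgZ, hgN⟩ := hmove Z g₀ hg₀ hZ₀.symm
  obtain ⟨g', hg', hg'Z, hg'N⟩ := hmove Z' (g₀ * γ⁻¹) (mul_mem hg₀ (inv_mem hγ)) (by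
    rw [hZ', hconj, inv_mul_cancel_right, ← hZ₀])
  have hInn : ∀ (b : MulAut R), ∀ x ∈ Inn R, b * x * b⁻¹ ∈ Inn R := fun b x hx =>
    (Inn_normal R).conj_mem x hx b
  have hI₀ : Inn R ≤ Z₀ := fun x hx => by
    rw [hZ₀]
    exact ⟨g₀⁻¹ * x * g₀⁻¹⁻¹, hI (hInn _ x hx), by simp [mul_assoc]⟩
  have hI' : Inn R ≤ Z' := fun x hx => by
    rw [hZ']
    exact ⟨γ⁻¹ * x * γ⁻¹⁻¹, hI (hInn _ x hx), by simp [mul_assoc]⟩
  have hcZ : Nat.card Z' = Nat.card Z := by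
    rw [hZ']
    exact Subgroup.card_map_of_injective (MulAut.conj γ).injective
  have hbig : ∀ {Z₁ : Subgroup (MulAut R)}, Z₁ ≤ P₀ → Nat.card Z₁ = Nat.card Z →
      Nat.card Z < Nat.card (normalizerIn P₀ Z₁) := fun {Z₁} hle hc => by
    have hne : Z₁ < P₀ := lt_of_le_of_ne hle fun e => by
      rw [e] at hc
      exact (Set.Finite.card_lt_card (Set.toFinite _) hlt).ne hc.symm
    exact hc ▸ Set.Finite.card_lt_card (Set.toFinite _) (lt_normalizerIn hP₀p hne)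
  have hlt' : Nat.card Z < Nat.card P₀ := Set.Finite.card_lt_card (Set.toFinite _) hlt
  have h1 : GoodExt (W F E p) g Z := (ih (Nat.card P₀ - Nat.card (normalizerIn P₀ Z))
    (by have := hbig hZ rfl; omega) (γ := g) (hI.trans (le_normalizerIn hZ)) hg
    (fun x hx => normalizerIn_le P₀ Z₀ (hgN x hx)) (normalizerIn_le _ _) rfl).mono
      (le_normalizerIn hZ)
  obtain ⟨N₂, hN₂⟩ : ∃ N₂, N₂ = (normalizerIn P₀ Z').map (MulAut.conj g').toMonoidHom := ⟨_, rfl⟩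
  have hN₂P : N₂ ≤ P₀ := by
    rw [hN₂]
    rintro _ ⟨x, hx, rfl⟩
    exact normalizerIn_le _ _ (hg'N x hx)
  have hN₂c : Nat.card N₂ = Nat.card (normalizerIn P₀ Z') := by
    rw [hN₂]
    exact Subgroup.card_map_of_injective (MulAut.conj g').injective
  have hZ₀N₂ : Z₀ ≤ N₂ := by
    rw [hN₂, ← hg'Z]
    exact Subgroup.map_mono (le_normalizerIn hZ'P)
  have h3 : GoodExt (W F E p) g'⁻¹ Z₀ := (ih (Nat.card P₀ - Nat.card N₂)
    (by have := hbig hZ'P hcZ; omega) (γ := g'⁻¹) (hI₀.trans hZ₀N₂) (inv_mem hg')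
    (fun y hy => by
      rw [hN₂] at hy
      obtain ⟨x, hx, rfl⟩ := hy
      simpa [mul_assoc] using normalizerIn_le _ _ hx) hN₂P rfl).mono hZ₀N₂
  have hgz : ∀ z ∈ Z, g * z * g⁻¹ ∈ Z₀ := fun z hz => hgZ ▸ ⟨z, hz, rfl⟩
  have hn : g' * γ * g⁻¹ ∈ Subgroup.normalizer (Z₀ : Set (MulAut R)) := by
    refine SatCriterion.mem_normalizer_of_finite fun y hy => ?_
    rw [← hgZ] at hy
    obtain ⟨z, hz, rfl⟩ := hy
    rw [← hg'Z, hZ']
    exact ⟨γ * z * γ⁻¹, ⟨z, hz, rfl⟩, by simp [mul_assoc]⟩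
  have h2 : GoodExt (W F E p) (g' * γ * g⁻¹) Z₀ :=
    hnorm hI₀ hZ₀P (hH₀ ▸ hK) (mul_mem (mul_mem hg' hγ) (inv_mem hg)) hn
  have h12 : GoodExt (W F E p) (g' * γ * g⁻¹ * g) Z := h1.comp hRS hI hI₀ h2 hgz
  rw [inv_mul_cancel_right] at h12
  have := h12.comp hRS hI hI₀ h3 fun z hz => by
    have := (Subgroup.mem_normalizer_iff.1 hn _).1 (hgz z hz)
    simpa [mul_assoc] using this
  rwa [inv_mul_cancel_left] at this

end CfsgLib.FusionComponents.Henke
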