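import Cfsg.Agent.FusionComponents.Henke.Ext

/-!
# Maps of `W` inside a class

All isomorphisms of `W F E p` between subgroups in `HT F T` are linked, once the classes of the
larger subgroups are saturated.
-/

set_option autoImplicit false
set_option linter.unusedSectionVars false
set_option linter.unusedVariables false

namespace CfsgLib.FusionComponents.Henke

open Cfsg Cfsg.FusionSystem CfsgLib.Fusion CfsgLib.FusionClosed CfsgLib.FusionComponents

variable {Ω : Type*} [Group Ω] {S T : Subgroup Ω} {F : FusionSystem S} {E : FusionSystem T}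
  {p n : ℕ} {Y Z V : Subgroup Ω}

/-- The inductive hypothesis above order `n`. -/
def Above (F : FusionSystem S) (E : FusionSystem T) (p n : ℕ) : Prop :=
  ∀ X, HT F T X → X ≤ S → n < Nat.card X → SatCriterion.SatClass (W F E p) p X

/-- Restrictions of maps on subgroups of order at least `m` are linked. -/
def LinkUp (F : FusionSystem S) (E : FusionSystem T) (p n m : ℕ) : Prop :=
  ∀ (X A B : Subgroup Ω) (ψ : X →* Ω) (k : A ≃* B), ψ ∈ (W F E p).Hom X → m ≤ Nat.card X →
    HT F T A → Nat.card A = n → ∀ hA : A < X, X ≤ normalizerIn S A →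
      (∀ a : A, ψ ⟨a, hA.le a.2⟩ = (k a : Ω)) → Link (W F E p) (K F E p) k

/-- A group is generated by a Sylow subgroup and the elements of order prime to `p`. -/
theorem exists_mul_of_isSylowIn {G : Type*} [Group G] [Fact p.Prime] {A P : Subgroup G}
    [Finite A] (hPA : P ≤ A) (h : IsSylowIn p A P) {z : G} (hz : z ∈ A) :
    ∃ x ∈ coprimeGen p A, ∃ y ∈ P, x * y = z := by
  obtain ⟨R₁, hR₁⟩ := id h
  have htop := congrArg (Subgroup.map A.subtype) (CfsgLib.Transfer.sylow_sup_pResidual R₁)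
  rw [Subgroup.map_sup, ← MonoidHom.range_eq_map, Subgroup.range_subtype, hR₁,
    Subgroup.subgroupOf_map_subtype, inf_eq_left.2 hPA, ← coprimeGen_eq_map, sup_comm] at htop
  exact exists_mul_of_sup (fun y hy x hx => coprimeGen_conj_mem
    (fun g hg => mul_mem (mul_mem (hPA hy) hg) (inv_mem (hPA hy))) hx) (htop.symm ▸ hz)

variable [Finite S] [Fact p.Prime]

/-- The restriction of `O^p` of a stabilizer lies in `K`. -/
theorem res_mem_K (hS : IsPGroup p S) (hE : E.IsNormalIn F p) {A X : Subgroup Ω} (hAX : A ≤ X)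
    (hX : X ≤ S) {γ : MulAut X} (hγ : γ ∈ coprimeGen p (SatCriterion.stab (W F E p) X A))
    (hγ' : γ ∈ SatCriterion.stab (W F E p) X A) :
    SatCriterion.res (W F E p) hAX ⟨γ, hγ'⟩ ∈ K F E p A := by
  have hle : coprimeGen p (SatCriterion.stab (W F E p) X A) ≤
      ((K F E p A).comap (SatCriterion.res (W F E p) hAX)).map
        (SatCriterion.stab (W F E p) X A).subtype := (Subgroup.closure_le _).2 fun a ha =>
    ⟨⟨a, ha.1⟩, mem_K_of_W hS hE (hAX.trans hX) (SatCriterion.res_mem hAX hX _)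
      (ha.2.coprime_dvd_left ((orderOf_map_dvd _ _).trans (by rw [Subgroup.orderOf_mk]))), rfl⟩
  obtain ⟨b, hb, hbγ⟩ := hle hγ
  rwa [show (⟨γ, hγ'⟩ : SatCriterion.stab (W F E p) X A) = b from Subtype.ext hbγ.symm]

variable (hE : E.IsNormalIn F p)
include hE

theorem Link.pre {c : MulAut Y} (hc : c ∈ K F E p Y) (hY : Y ≤ S) {e : Y ≃* Z}
    (he : Link (W F E p) (K F E p) e) : Link (W F E p) (K F E p) ((c : Y ≃* Y).trans e) := by
  obtain ⟨L, f, g, hf, hg, hj⟩ := he
  refine ⟨L, f, g, hf, hg, ?_⟩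
  convert mul_mem hj (congr_mem_K hE (hf.isIsoF W_le hY) hc) using 1
  ext x
  simp [MulAut.congr]

/-- Linking composes, given the step on larger subgroups. -/
theorem Link.comp {e : Y ≃* Z} {e' : Z ≃* V} (hY : HT F T Y) (hcard : Nat.card Y = n)
    (he : IsIso (W F E p) e) (he' : IsIso (W F E p) e') (hlt : Z < normalizerIn S Z)
    (hs : LinkUp F E p n (Nat.card (normalizerIn S Z))) (h₁ : Link (W F E p) (K F E p) e) (h₂ : Link (W F E p) (K F E p) e') :
    Link (W F E p) (K F E p) (e.trans e') := by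
  obtain ⟨L₁, f, g, hf, hg, hj₁⟩ := h₁
  obtain ⟨L₂, f', g', hf', hg', hj₂⟩ := h₂
  have hZD : Z ≤ S := he.le_right
  have hT₁ : HT F T L₁ := hY.of_isConj (hE.1.2.2.2.1) (hf.isIsoF W_le he.le_left).isConj
  have hT₂ : HT F T L₂ := (hY.of_isConj (hE.1.2.2.2.1) (IsIso.isConj (F := F) (W_le _ he))).of_isConj (hE.1.2.2.2.1)
    (hf'.isIsoF W_le hZD).isConj
  obtain ⟨φ, hφ, hφv⟩ := id hg
  obtain ⟨χ, hχ, hχv⟩ := id hf'
  have himg : imgHom φ Z = L₁ := imgHom_eq_of_agree (le_normalizerIn hZD) hφv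
  obtain ⟨η, hη, hηv⟩ := exists_iso_range hφ
  have hXN : φ.range ≤ normalizerIn S L₁ :=
    himg ▸ SatCriterion.range_le_normalizerIn hφ (le_normalizerIn hZD) le_rfl
  have hcX : Nat.card (normalizerIn S Z) = Nat.card φ.range := hη.card_eq
  have hlt' : L₁ < φ.range := by
    refine lt_of_le_of_ne (himg ▸ imgHom_le_range φ Z) fun e => ?_
    have h1 := card_lt_of_lt hlt (normalizerIn_le S Z)
    rw [hcX, ← e, ← (hg.isIso hZD).card_eq] at h1
    exact lt_irrefl _ h1
  obtain ⟨L, ρ₁, ρ₂, hρ₁, hρ₂, hj₃⟩ := hs φ.range L₁ L₂ (χ.comp η.symm.toMonoidHom) (g.symm.trans f')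
    (hη.symm.comp_hom hχ) hcX.le hT₁ ((hf.isIso he.le_left).card_eq.symm.trans hcard) hlt' hXN fun a => by
      show χ (η.symm ⟨a, _⟩) = (f' (g.symm a) : Ω)
      have hz := le_normalizerIn hZD (g.symm a).2
      rw [show (⟨(a : Ω), hlt'.le a.2⟩ : φ.range) = η ⟨g.symm a, hz⟩ from Subtype.ext (by
        rw [hηv, hφv, MulEquiv.apply_symm_apply]), η.symm_apply_apply, hχv]
  refine ⟨L, f.trans ρ₁, g'.trans ρ₂, hf.trans he.le_left hρ₁,
    hg'.trans he'.le_right hρ₂, ?_⟩
  convert mul_mem (mul_mem (congr_mem_K hE (hρ₂.isIsoF W_le (hf'.isIso hZD).le_right) hj₂) hj₃)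
    (congr_mem_K hE (hρ₁.isIsoF W_le (hf.isIso he.le_left).le_right) hj₁) using 1
  ext x
  simp [MulAut.congr]

/-- Restrictions of maps on strictly larger subgroups are linked. -/
theorem linkUp (hS : IsPGroup p S) (habove : Above F E p n) :
    LinkUp F E p n 0 := by
  have hDp : IsPGroup p S := hS
  suffices key : ∀ (d : ℕ) (X A B : Subgroup Ω) (ψ : X →* Ω) (k : A ≃* B), ψ ∈ (W F E p).Hom X →
      Nat.card S ≤ Nat.card X + d → HT F T A → Nat.card A = n → ∀ hA : A < X,
      X ≤ normalizerIn S A → (∀ a : A, ψ ⟨a, hA.le a.2⟩ = (k a : Ω)) → Link (W F E p) (K F E p) k from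
    fun X A B ψ k hψ _ => key (Nat.card S) X A B ψ k hψ (Nat.le_add_left _ _)
  intro d
  induction d using Nat.strong_induction_on with
  | _ d ih =>
  intro X A B ψ k hψ hd hAH hn hA hXN hag
  have hXD : X ≤ S := le_left hψ
  have hAD := hA.le.trans hXD
  have himg : imgHom ψ A = B := imgHom_eq_of_agree hA.le fun x _ => hag x
  have hkI : IsIso (W F E p) k := mem_of_agree hψ hA.le fun a => (hag a).symm
  have hBD : B ≤ S := hkI.le_right
  rcases hXN.eq_or_lt with hXK | hXK
  · subst hXK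
    exact ⟨B, k, MulEquiv.refl B, ⟨ψ, hψ, fun y hy => hag y⟩, IsExt.refl hBD, by
      convert one_mem (K F E p B); ext x; simp⟩
  have hX'le : ψ.range ≤ normalizerIn S B :=
    himg ▸ SatCriterion.range_le_normalizerIn hψ hA.le hXN
  obtain ⟨e, he, hev⟩ := exists_iso_range hψ
  rcases hX'le.eq_or_lt with hXK' | hXK'
  · refine ⟨A, MulEquiv.refl A, k.symm, IsExt.refl hAD,
      ⟨restrictHom (X.subtype.comp e.symm.toMonoidHom) hXK'.ge,
        restrict_mem he.symm _, fun b hb => ?_⟩, by convert one_mem (K F E p A); ext x; simp⟩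
    show (e.symm ⟨b, _⟩ : Ω) = (k.symm b : Ω)
    rw [show (⟨(b : Ω), hXK'.ge hb⟩ : ψ.range) = e ⟨k.symm b, hA.le (k.symm b).2⟩ from
      Subtype.ext (by rw [hev, hag, MulEquiv.apply_symm_apply]), e.symm_apply_apply]
  have := finite_of_le hXD
  have := finite_of_le (normalizerIn_le S A)
  have := finite_of_le (normalizerIn_le S B)
  obtain ⟨M, hM⟩ : ∃ M, M = normalizerIn (normalizerIn S A) X := ⟨_, rfl⟩
  obtain ⟨M', hM'⟩ : ∃ M', M' = normalizerIn (normalizerIn S B) ψ.range := ⟨_, rfl⟩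
  have hXM : X < M := hM ▸ lt_normalizerIn (hDp.to_le (normalizerIn_le S A)) hXK
  have hXM' : ψ.range < M' := hM' ▸ lt_normalizerIn (hDp.to_le (normalizerIn_le S B)) hXK'
  have hMN : M ≤ normalizerIn S A := hM ▸ normalizerIn_le _ X
  have hM'N : M' ≤ normalizerIn S B := hM' ▸ normalizerIn_le _ _
  have hMX : M ≤ normalizerIn S X := fun g hg => ⟨(hMN hg).1, (hM ▸ hg : _).2⟩
  have hMX' : M' ≤ normalizerIn S ψ.range := fun g hg => ⟨(hM'N hg).1, (hM' ▸ hg : _).2⟩
  have heA : ∀ x : X, (e x : Ω) ∈ B ↔ (x : Ω) ∈ A := fun x => by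
    rw [hev, ← himg]
    exact mem_imgHom_apply_iff ((W F E p).injective_of_mem hψ)
  have heA' : ∀ y : ψ.range, (e.symm y : Ω) ∈ A ↔ (y : Ω) ∈ B := fun y => by
    rw [← heA, MulEquiv.apply_symm_apply]
  have hBr : B ≤ ψ.range := himg ▸ imgHom_le_range ψ A
  have hnX : n < Nat.card X := hn ▸ card_lt_of_lt hA hXD
  have hsat := habove X (hAH.of_le (hE.1.2.2.2.1) hA.le) hXD hnX
  obtain ⟨Sig, hSigA, hAutM, hSigp, hSig⟩ := SatCriterion.exists_sylowIn_ge
    (SatCriterion.autInducedBy_le_stab (F := W F E p) hA.le hXD hMN)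
    (isPGroup_autInducedBy (hDp.to_le (hMN.trans (normalizerIn_le S A))) X)
  have hle' : (autInducedBy M' ψ.range).map (MulAut.congr e.symm).toMonoidHom ≤
      SatCriterion.stab (W F E p) X A := by
    rintro _ ⟨a, ha, rfl⟩
    exact SatCriterion.congr_mem_stab he.le_right he.symm heA'
      (SatCriterion.autInducedBy_le_stab (F := W F E p) hBr he.le_right hM'N ha)
  have := finite_mulAut (V := X)
  obtain ⟨γ₀, hγ₀, hγ₀c⟩ := hSig.exists_conj hle'
    ((isPGroup_autInducedBy (hDp.to_le (hM'N.trans (normalizerIn_le S B))) _).map _)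
  obtain ⟨o, ho, s, hs, hos⟩ := exists_mul_of_isSylowIn hSigA hSig (inv_mem hγ₀)
  obtain ⟨γ, hγd⟩ : ∃ γ, γ = o⁻¹ := ⟨_, rfl⟩
  have hγ : γ ∈ SatCriterion.stab (W F E p) X A := hγd ▸ inv_mem (coprimeGen_le _ ho)
  have hγs : γ = s * γ₀ := by
    rw [hγd, ← inv_inv (s * γ₀), inv_inj, mul_inv_rev, ← hos, mul_inv_cancel_right]
  have hγc : ∀ x ∈ (autInducedBy M' ψ.range).map (MulAut.congr e.symm).toMonoidHom,
      γ * x * γ⁻¹ ∈ Sig := fun x hx => by
    have h1 := mul_mem (mul_mem hs (hγ₀c x hx)) (inv_mem hs)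
    rw [hγs]
    simpa [mul_assoc] using h1
  obtain ⟨Y', θ, hθ, hYr, hθc⟩ :=
    SatCriterion.exists_iso_sylow hsat (fun a ha => (hSigA ha).1) hSigp
  obtain ⟨φ₁, hφ₁, hφ₁v⟩ := exists_extension (T := M) hYr hθ fun g hg =>
    mem_extender_of_congr (hMX hg) (α := X.normalizerMonoidHom ⟨g, (hMX hg).2⟩) (fun _ => rfl)
      (hθc _ (hAutM (mem_autInducedBy_iff.2 ⟨g, hg, (hMX hg).2, fun _ => rfl⟩)))
  have hγiso : IsIso (W F E p) γ := (mem_autGroup_iff hXD).1 hγ.1
  obtain ⟨φ₂, hφ₂, hφ₂v⟩ := exists_extension (T := M') hYr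
    ((he.symm.trans hγiso).trans hθ) fun g hg =>
    mem_extender_of_congr (hMX' hg) (α := ψ.range.normalizerMonoidHom ⟨g, (hMX' hg).2⟩)
      (fun _ => rfl) (by
      rw [congr_trans, congr_trans, congr_self_eq]
      exact hθc _ (hγc _ ⟨_, mem_autInducedBy_iff.2 ⟨g, hg, (hMX' hg).2, fun _ => rfl⟩, rfl⟩))
  -- the restriction of `γ` to `A`
  obtain ⟨c, hcdef⟩ : ∃ c, c = SatCriterion.res (W F E p) hA.le ⟨γ, hγ⟩ := ⟨_, rfl⟩
  have hcJ : c ∈ K F E p A := hcdef ▸
    res_mem_K hS hE hA.le hXD (hγd ▸ inv_mem ho) hγ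
  obtain ⟨i₁, hi₁, hi₁v⟩ := exists_iso_restrict hφ₁ (hA.le.trans hXM.le)
  have hval : ∀ a : A, φ₂ ⟨k a, hXM'.le (hBr (k a).2)⟩ = (i₁ (c a) : Ω) := fun a => by
    rw [hi₁v, hφ₁v ⟨c a, hA.le (c a).2⟩, hφ₂v ⟨k a, hBr (k a).2⟩]
    show (θ (γ (e.symm ⟨k a, _⟩)) : Ω) = _
    rw [show (⟨(k a : Ω), hBr (k a).2⟩ : ψ.range) = e ⟨a, hA.le a.2⟩ from
      Subtype.ext (by rw [hev, hag]), e.symm_apply_apply]
    refine congrArg (fun w => (θ w : Ω)) (Subtype.ext ?_)
    rw [hcdef]
    rfl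
  have hi₂v : ∀ b : B, φ₂ ⟨b, hXM'.le (hBr b.2)⟩ = (((k.symm.trans c).trans i₁) b : Ω) :=
    fun b => by
      have := hval (k.symm b)
      simp only [MulEquiv.apply_symm_apply] at this
      exact this
  have hAM : A < M := hA.trans hXM
  have hBM' : B < M' := lt_of_le_of_lt hBr hXM'
  have hcM : Nat.card X < Nat.card M := card_lt_of_lt hXM (hMN.trans (normalizerIn_le S A))
  have hcM' : Nat.card X < Nat.card M' :=
    lt_of_eq_of_lt he.card_eq (card_lt_of_lt hXM' (hM'N.trans (normalizerIn_le S B)))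
  have hMD := Subgroup.card_le_of_le (hMN.trans (normalizerIn_le S A))
  have hM'S := Subgroup.card_le_of_le (hM'N.trans (normalizerIn_le S B))
  have hBH : HT F T B := hAH.of_isConj (hE.1.2.2.2.1) (IsIso.isConj (F := F) (W_le _ hkI))
  have hl₁ : Link (W F E p) (K F E p) i₁ := ih (Nat.card S - Nat.card M) (by omega) M A _ φ₁ i₁ hφ₁ (by omega) hAH
    hn hAM hMN fun a => (hi₁v a).symm
  have hl₂ : Link (W F E p) (K F E p) ((k.symm.trans c).trans i₁) := ih (Nat.card S - Nat.card M') (by omega) M' B _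
    φ₂ _ hφ₂ (by omega) hBH (hkI.card_eq.symm.trans hn) hBM' hM'N hi₂v
  -- composition through the image of `φ₁`
  obtain ⟨R₁, hR₁⟩ : ∃ R₁, R₁ = imgHom φ₁ A := ⟨_, rfl⟩
  have hR₁D : R₁ ≤ S := hR₁ ▸ imgHom_le hφ₁ A
  subst hR₁
  have := finite_of_le (normalizerIn_le S (imgHom φ₁ A))
  have hcN : Nat.card M ≤ Nat.card (normalizerIn S (imgHom φ₁ A)) :=
    Nat.card_le_card_of_injective (fun x => (⟨φ₁ x,
      SatCriterion.apply_mem_normalizerIn hφ₁ hAM.le hMN x⟩ : normalizerIn S (imgHom φ₁ A)))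
      fun a b hab => (W F E p).injective_of_mem hφ₁ (congrArg Subtype.val hab)
  have hlt : imgHom φ₁ A < normalizerIn S (imgHom φ₁ A) :=
    lt_of_le_of_ne (le_normalizerIn hR₁D) fun e' => by
      rw [← e', card_imgHom ((W F E p).injective_of_mem hφ₁) hAM.le] at hcN
      omega
  have hcI : IsIso (W F E p) ((c : A ≃* A).trans i₁) :=
    ((mem_autGroup_iff hAD).1 (hcdef ▸ SatCriterion.res_mem hA.le hXD _)).trans hi₁
  have hi₂I : IsIso (W F E p) ((k.symm.trans c).trans i₁) :=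
    mem_of_agree hφ₂ (hBr.trans hXM'.le) fun b => (hi₂v b).symm
  have := Link.comp hE hAH hn hcI hi₂I.symm hlt
    (fun X' A' B' ψ' k' h1 h2 h3 h4 h5 => ih (Nat.card S - Nat.card X') (by
      have := Subgroup.card_le_of_le (le_left h1)
      omega) X' A' B' ψ' k' h1 (by omega) h3 h4 h5)
    (Link.pre hE hcJ hAD hl₁) hl₂.symm
  rwa [show ((c : A ≃* A).trans i₁).trans ((k.symm.trans c).trans i₁).symm = k from
    MulEquiv.ext fun x => by simp] at this

/-- All isomorphisms of a system inside the class are linked, once the step is known. -/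
theorem linkSystem (hS : IsPGroup p S)
    (habove : Above F E p n) (hnD : n < Nat.card S)
    {e : Y ≃* Z} (he : IsIso (W F E p) e) (hY : HT F T Y) (hn : Nat.card Y = n) : Link (W F E p) (K F E p) e := by
  have hDp : IsPGroup p S := hS
  have hup := linkUp hE hS habove
  have hprop : ∀ {A : Subgroup Ω}, A ≤ S → Nat.card A = n → A < normalizerIn S A := fun hA hc =>
    lt_normalizerIn hDp (lt_of_le_of_ne hA fun e => by rw [e] at hc; omega)
  let L : FusionSystem S :=
    { Hom := fun X => {φ | φ ∈ (W F E p).Hom X ∧ ∀ (A B : Subgroup Ω) (hAX : A ≤ X), HT F T A →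
        Nat.card A = n → ∀ k : A ≃* B, (∀ a : A, φ ⟨a, hAX a.2⟩ = (k a : Ω)) → Link (W F E p) (K F E p) k}
      le_of_mem := fun hφ => (W F E p).le_of_mem hφ.1
      injective_of_mem := fun hφ => (W F E p).injective_of_mem hφ.1
      conj_mem := fun {X g} hX hg => ⟨(W F E p).conj_mem hX hg, fun A B hAX hAH hc k hk =>
        hup (normalizerIn S A) A B _ k ((W F E p).conj_mem (normalizerIn_le S A) hg) (Nat.zero_le _) hAH hc
          (hprop (hAX.trans hX) hc) le_rfl fun a => hk a⟩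
      comp_mem := fun {X V φ ψ} hφ hψ hh => ⟨(W F E p).comp_mem hφ.1 hψ.1 hh,
        fun A B hAX hAH hc k hk => by
          obtain ⟨k₁, hk₁, hk₁v⟩ := exists_iso_restrict hφ.1 hAX
          have hle : imgHom φ A ≤ V := by
            rintro _ ⟨x, -, rfl⟩
            exact hh x
          have hk₂v : ∀ z : imgHom φ A, ψ ⟨z, hle z.2⟩ = ((k₁.symm.trans k) z : Ω) := fun z => by
            obtain ⟨a, rfl⟩ := k₁.surjective z
            rw [MulEquiv.trans_apply, k₁.symm_apply_apply, ← hk]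
            exact congrArg ψ (Subtype.ext (hk₁v a))
          have hk₂ : IsIso (W F E p) (k₁.symm.trans k) :=
            mem_of_agree hψ.1 hle fun z => (hk₂v z).symm
          have hZH : HT F T (imgHom φ A) := hAH.of_isConj (hE.1.2.2.2.1) (IsIso.isConj (F := F) (W_le _ hk₁))
          have := Link.comp hE hAH hc hk₁ hk₂ (hprop hk₁.le_right (hk₁.card_eq.symm.trans hc))
            (fun X' A' B' ψ' k' h1 _ => hup X' A' B' ψ' k' h1 (Nat.zero_le _))
            (hφ.2 A _ hAX hAH hc k₁ fun a => (hk₁v a).symm)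
            (hψ.2 _ B hle hZH (hk₁.card_eq.symm.trans hc) _ hk₂v)
          rwa [show k₁.trans (k₁.symm.trans k) = k from MulEquiv.ext fun x => by simp] at this⟩
      inv_mem := fun {X φ} hφ => by
        obtain ⟨ψ, hψ, hv⟩ := (W F E p).inv_mem hφ.1
        refine ⟨ψ, ⟨hψ, fun A B hAX hAH hc k hk => ?_⟩, hv⟩
        have hpre : ∀ a : A, ∃ x : X, φ x = (a : Ω) ∧ (x : Ω) = (k a : Ω) := fun a => by
          obtain ⟨x, hx⟩ := hAX a.2
          refine ⟨x, hx, ?_⟩
          rw [← hk a, ← hv x]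
          exact congrArg ψ (Subtype.ext hx)
        have hBX : B ≤ X := fun b hb => by
          obtain ⟨a, ha⟩ := k.surjective ⟨b, hb⟩
          obtain ⟨x, -, hx⟩ := hpre a
          rw [← show (k a : Ω) = b from congrArg Subtype.val ha, ← hx]
          exact x.2
        have hkW : IsIso (W F E p) k := mem_of_agree hψ hAX fun a => (hk a).symm
        have := hφ.2 B A hBX (hAH.of_isConj (hE.1.2.2.2.1) (IsIso.isConj (F := F) (W_le _ hkW)))
          (hkW.card_eq.symm.trans hc) k.symm fun b => by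
            obtain ⟨a, rfl⟩ := k.surjective b
            obtain ⟨x, hx, hxk⟩ := hpre a
            rw [k.symm_apply_apply, ← hx]
            exact congrArg φ (Subtype.ext hxk.symm)
        simpa using this.symm }
  have hgen : ∀ X, HT F T X → K F E p X ≤ L.autGroup X := fun X hX a ha => by
    by_cases hXS : X ≤ S
    swap
    · have h1 := K_le_autGroup ha
      rw [autGroup_eq_bot hXS, Subgroup.mem_bot] at h1
      rw [h1]
      exact one_mem _
    have haI : IsIso (W F E p) a := (mem_autGroup_iff hXS).1 (K_le_W hX ha)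
    refine (mem_autGroup_iff hXS).2 ⟨haI, fun A B hAX hAH hc k hk => ?_⟩
    rcases hAX.eq_or_lt with rfl | hlt
    · obtain rfl : B = A := by
        ext b
        refine ⟨fun hb => ?_, fun hb => ?_⟩
        · obtain ⟨x, hx⟩ := k.surjective ⟨b, hb⟩
          rw [← show (k x : Ω) = b from congrArg Subtype.val hx, ← hk x]
          exact (a x).2
        · obtain ⟨x, hx⟩ := a.surjective ⟨b, hb⟩
          rw [← show (a x : Ω) = b from congrArg Subtype.val hx,
            show (a x : Ω) = k x from hk x]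
          exact (k x).2
      rw [show k = a from MulEquiv.ext fun x => Subtype.ext (hk x).symm]
      exact link_self hXS ha
    · have := finite_of_le (hXS)
      exact hup (normalizerIn X A) A B _ k (restrict_mem haI (normalizerIn_le X A)) (Nat.zero_le _)
        hAH hc (lt_normalizerIn (hDp.to_le hXS) hlt) (inf_le_inf_right _ hXS) fun x => hk x
  have hle : (W F E p).IsSubsystemOf L := le_of_K_le hgen
  exact (hle _ he).2 Y Z le_rfl hY hn e fun a => rfl


end CfsgLib.FusionComponents.Henke
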