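import Cfsg.Agent.FusionComponents.Henke.Universal
import Cfsg.Agent.FusionComponents.Char
import Cfsg.Agent.FusionEnvelope.Residual

/-!
# The product of a normal subsystem with a subgroup

The `p`-residual of a normal subsystem is normal; hence there is exactly one saturated subsystem
over `R` with the same `p`-residual.
-/

set_option autoImplicit false
set_option linter.unusedSectionVars false

universe u

namespace CfsgLib.FusionComponents.Henke

open Cfsg Cfsg.FusionSystem CfsgLib.Fusion CfsgLib.FusionClosed CfsgLib.FusionComponents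

variable {Ω : Type u} [Group Ω] {S T U V H H' : Subgroup Ω} {F : FusionSystem S}
  {E : FusionSystem T} {p : ℕ}

/-- Two saturated subsystems of `p`-power index over equal subgroups have the same maps. -/
theorem hom_eq_of_index [Finite H] [Fact p.Prime] (hH : IsPGroup p H) (hHH : H = H')
    {D : FusionSystem U} {A : FusionSystem H} {B : FusionSystem H'} (hA : A.IsSaturated p)
    (hAD : A.HasPPowerIndexIn D p) (hB : B.IsSaturated p) (hBD : B.HasPPowerIndexIn D p)
    (P : Subgroup Ω) : A.Hom P = B.Hom P := by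
  subst hHH
  exact Set.Subset.antisymm
    (FusionPIndex.isSubsystemOf_of_pResidual hH hA le_rfl (fun Q hQ =>
      (FusionPIndex.pResidual_autGroup_mono hAD.1 hQ).trans (hBD.2.2 Q hQ)) P)
    (FusionPIndex.isSubsystemOf_of_pResidual hH hB le_rfl (fun Q hQ =>
      (FusionPIndex.pResidual_autGroup_mono hBD.1 hQ).trans (hAD.2.2 Q hQ)) P)

variable [Finite S] [Fact p.Prime] (hS : IsPGroup p S) (hE : E.IsNormalIn F p)
include hS hE

/-- **The `p`-residual of a normal subsystem is normal.** -/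
theorem isNormalIn_pResidual {E₀ : FusionSystem (E.hyperfocalSubgroup p)}
    (h : E.IsPResidual p E₀) : E₀.IsNormalIn F p := by
  have hTS := hE.1.2.2.2.1.1
  have := finite_of_le hTS
  have hTp : IsPGroup p T := hS.to_le hTS
  have hcl := CfsgLib.Fusion.stronglyClosed_hyperfocal hTp hE.1.1
  have hHT := hcl.1
  have := finite_of_le hHT
  have hw := FusionEnvelope.weaklyNormal_pResidual hS hE.1 h
  have hHsc := hw.2.2.2.1
  have hres : ∀ α ∈ F.autGroup T, ∀ x : T, (x : Ω) ∈ E.hyperfocalSubgroup p →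
      (α x : Ω) ∈ E.hyperfocalSubgroup p := fun α hα x hx =>
    stronglyClosed_apply hHsc ((mem_autGroup_iff hTS).1 hα) hx
  refine isNormalIn_of_invariant_normal hS hE
    (CfsgLib.PPowerIndexNormal.isNormalIn_of_pPowerIndex hTp hE.1.1 hHT
      (fun s hs t ht => conj_mem_stronglyClosed hcl hs ht) h.1 h.2)
    hres fun α hα P hPT φ hφ => ?_
  obtain ⟨β, hβ, hβv⟩ := exists_aut_restrict ((mem_autGroup_iff hTS).1 hα) hHT
    fun x hx => hres α hα ⟨x, hHT hx⟩ hx
  have hPH : P ≤ E.hyperfocalSubgroup p := le_left hφ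
  obtain ⟨χ, hχ, hχv⟩ := hw.2.2.2.2.1 P hPH φ hφ β hβ
  have hle : (P.subgroupOf T).map (T.subtype.comp α.toMonoidHom) ≤
      (P.subgroupOf (E.hyperfocalSubgroup p)).map
        ((E.hyperfocalSubgroup p).subtype.comp β.toMonoidHom) := by
    rintro _ ⟨x, hx, rfl⟩
    exact ⟨⟨x, hPH hx⟩, hx, hβv ⟨x, hPH hx⟩⟩
  refine ⟨restrictHom χ hle, restrict_mem hχ hle, fun x hφx hαx => ?_⟩
  have hφH : φ x ∈ E.hyperfocalSubgroup p := apply_mem hφ x
  have hm : (β ⟨x, hPH x.2⟩ : Ω) ∈ (P.subgroupOf (E.hyperfocalSubgroup p)).map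
      ((E.hyperfocalSubgroup p).subtype.comp β.toMonoidHom) := ⟨⟨x, hPH x.2⟩, x.2, rfl⟩
  exact ((congrArg χ (Subtype.ext (hβv ⟨x, hPH x.2⟩).symm)).trans (hχv x hφH hm)).trans
    (hβv ⟨φ x, hφH⟩)

/-- **The product of a normal subsystem with a subgroup exists and is unique.** -/
theorem exists_unique_product (R : Subgroup Ω) (hTR : T ≤ R) (hRS : R ≤ S) :
    ∃ D : FusionSystem R, (D.IsSaturated p ∧ D.IsSubsystemOf F ∧
      D.hyperfocalSubgroup p = E.hyperfocalSubgroup p ∧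
      ∀ (D₁ : FusionSystem (D.hyperfocalSubgroup p)) (E₁ : FusionSystem (E.hyperfocalSubgroup p)),
        D.IsPResidual p D₁ → E.IsPResidual p E₁ → ∀ P : Subgroup Ω, D₁.Hom P = E₁.Hom P) ∧
      ∀ D' : FusionSystem R, D'.IsSaturated p → D'.IsSubsystemOf F →
        D'.hyperfocalSubgroup p = E.hyperfocalSubgroup p →
        (∀ (D₁ : FusionSystem (D'.hyperfocalSubgroup p))
          (E₁ : FusionSystem (E.hyperfocalSubgroup p)),
          D'.IsPResidual p D₁ → E.IsPResidual p E₁ → ∀ P : Subgroup Ω, D₁.Hom P = E₁.Hom P) →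
        ∀ P : Subgroup Ω, D'.Hom P = D.Hom P := by
  have hTS := hE.1.2.2.2.1.1
  have := finite_of_le hTS
  have := finite_of_le hRS
  have hTp : IsPGroup p T := hS.to_le hTS
  have hRp : IsPGroup p R := hS.to_le hRS
  obtain ⟨E₀, hE₀⟩ := FusionEnvelope.exists_pResidual hTp hE.1.1
  have hcl := CfsgLib.Fusion.stronglyClosed_hyperfocal hTp hE.1.1
  have hHR : E.hyperfocalSubgroup p ≤ R := hcl.1.trans hTR
  have hn := isNormalIn_pResidual hS hE hE₀
  obtain ⟨D, hD, hDW, hED⟩ := exists_product hS hn hHR hRS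
  have hDF : D.IsSubsystemOf F := fun Q φ h => W_le Q (hDW.1 Q h)
  have hhyp : D.hyperfocalSubgroup p = E.hyperfocalSubgroup p := by
    rw [← FusionPIndex.hyperfocal_eq_of_hasPPowerIndex hRp
      (stronglyClosed_of_le hn.1.2.2.2.1 hHR hDF) hED]
    exact FusionPIndex.hyperfocal_eq_of_hasPPowerIndex hTp hcl hE₀.2
  have := finite_of_le (hhyp.le.trans hcl.1)
  have := finite_of_le hcl.1
  refine ⟨D, ⟨hD, hDF, hhyp, fun D₁ E₁ hD₁ hE₁ P => ?_⟩, fun D' hD' hDF' hhyp' hres P => ?_⟩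
  · exact (hom_eq_of_index (hRp.to_le (hhyp.le.trans hHR)) hhyp hD₁.1 hD₁.2 hE₀.1 hED P).trans
      (hom_eq_of_index (hTp.to_le hcl.1) rfl hE₀.1 hE₀.2 hE₁.1 hE₁.2 P)
  obtain ⟨D₁, hD₁⟩ := FusionEnvelope.exists_pResidual hRp hD'
  have heq := hres D₁ E₀ hD₁ hE₀
  refine hom_eq hS hn hHR hRS hD hDW hED hD' hDF'
    ⟨fun Q φ h => hD₁.2.1 Q (heq Q ▸ h), hhyp'.le, fun Q hQ => ?_⟩ P
  refine (hD₁.2.2.2 Q (hhyp'.symm ▸ hQ)).trans fun a ha => ?_
  have h1 : Q.subtype.comp a.toMonoidHom ∈ D₁.Hom Q := (mem_autGroup_iff (hhyp'.symm ▸ hQ)).1 ha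
  rw [heq Q] at h1
  exact (mem_autGroup_iff hQ).2 h1

end CfsgLib.FusionComponents.Henke
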