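import Cfsg.Agent.FusionComponents.Henke.Basic

/-!
# Good conjugates in `W`, and the family `J` inside `W`

Every subgroup is conjugate in `W F E p` to a good one, and `J F E p P` consists of maps of `W`.
-/

set_option autoImplicit false
set_option linter.unusedSectionVars false

namespace CfsgLib.FusionComponents.Henke

open Cfsg Cfsg.FusionSystem CfsgLib.Fusion CfsgLib.FusionClosed CfsgLib.FusionComponents

variable {Ω : Type*} [Group Ω] {S T : Subgroup Ω} {F : FusionSystem S} {E : FusionSystem T}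
  {P P' Q : Subgroup Ω} {p : ℕ}

variable [Finite S] [Fact p.Prime] (hS : IsPGroup p S) (hE : E.IsNormalIn F p)
include hS hE

/-- `J P` lies in `W` at a good subgroup, if it does so above. -/
theorem J_le_W_good (hP : Good F T P) (habove : ∀ X : Subgroup Ω, X ≤ S →
    Nat.card P < Nat.card X → J F E p X ≤ (W F E p).autGroup X) :
    J F E p P ≤ (W F E p).autGroup P := by
  have hF := hE.1.2.1
  have hT := hE.1.2.2.2.1
  intro g hg
  obtain ⟨P', hc, hP'⟩ := exists_fullyNormalized (F := F) hP.1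
  obtain ⟨e, χ, he, hχ, hv⟩ := exists_NT_iso hS hE hP hP' hc
  have hvs := agree_symm _ (le_normalizerIn le_sup_left) hv
  have hg' := congr_mem_J (E := E) (p := p) he hg
  rw [J_eq_JB hS hE hP'] at hg'
  have := finite_of_le hP.1
  by_cases hH : HT F T P'
  · rw [mem_JB_of_HT hH] at hg'
    have hPH : HT F T P := hH.of_isConj hT he.symm.isConj
    suffices h : coprimeGen p (AE F E P') ⊔ autInducedBy (P' ⊔ T) P' ≤
        ((W F E p).autGroup P).comap (MulAut.congr e.symm).toMonoidHom by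
      have h1 := h hg'
      rwa [Subgroup.mem_comap, MulEquiv.coe_toMonoidHom, congr_symm_congr] at h1
    refine sup_le (fun a ha => K_le_W hPH (congr_mem_K hE he.symm ha)) fun a ha => ?_
    exact autInducedBy_le_autGroup hP.1 (autInducedBy_mono (sup_le hP.1 hT.1) P
      (congr_mem_autNT hE hvs ha))
  · obtain ⟨a, ha, hga⟩ := (mem_JB_of_not_HT hH).1 hg'
    have hle : ext1 F T P' ≤ normalizerIn (P' ⊔ T) P' :=
      le_inf ext1_le_sup ((ext1_le_normalizerIn hT hP'.1).trans inf_le_right)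
    obtain ⟨eX, heX, heXv⟩ := exists_iso_restrict hχ.symm hle
    generalize imgHom ((normalizerIn (P ⊔ T) P).subtype.comp χ.symm.toMonoidHom)
      (ext1 F T P') = X at eX heX heXv
    have hXS : X ≤ S := heX.le_right
    have hcard : Nat.card P < Nat.card X := by
      rw [he.card_eq, ← heX.card_eq]
      exact card_lt_of_lt (lt_ext1 hS hF hT hP' hH) (ext1_le_sup.trans (sup_le hP'.1 hT.1))
    have ha' := habove X hXS hcard (congr_mem_J heX ha)
    have hPX : P ≤ X := fun x hx => by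
      have h1 := (heXv ⟨(e ⟨x, hx⟩ : Ω), le_ext1 (e ⟨x, hx⟩).2⟩).trans (hvs (e ⟨x, hx⟩))
      rw [MulEquiv.symm_apply_apply] at h1
      exact (show (eX ⟨(e ⟨x, hx⟩ : Ω), le_ext1 (e ⟨x, hx⟩).2⟩ : Ω) = x from h1) ▸ Subtype.mem _
    have hv' : ∀ y : P', (eX ⟨y, le_ext1 y.2⟩ : Ω) = e.symm y := fun y =>
      (heXv ⟨(y : Ω), le_ext1 y.2⟩).trans (hvs y)
    have h2 : Agrees hPX g (MulAut.congr eX a) := by
      have h3 := hga.congr (h' := hPX) (e := eX) (e₀ := e.symm) fun y => (hv' y).symm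
      rwa [congr_symm_congr] at h3
    exact (mem_autGroup_iff hP.1).2
      (mem_of_agree ((mem_autGroup_iff hXS).1 ha') hPX fun x => (h2 x).symm)

omit hS in
/-- A subgroup containing `T` is good. -/
theorem good_of_ge (hP : P ≤ S) (hTP : P ⊔ T = P) : Good F T P := by
  have hT := hE.1.2.2.2.1
  have hTP' : T ≤ P := le_sup_right.trans hTP.le
  refine ⟨hP, fun Q hQ => ?_⟩
  obtain ⟨e, he⟩ := isConj_iff.1 hQ
  obtain ⟨e₀, he₀, -⟩ := exists_inf_iso hT he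
  have := finite_of_le hT.1
  have hQT : Q ⊓ T = T := Subgroup.eq_of_le_of_card_ge inf_le_right (by
    rw [← he₀.card_eq, inf_eq_right.2 hTP'])
  have hTQ : T ≤ Q := hQT ▸ inf_le_left
  rw [sup_eq_left.2 hTQ, hTP, show normalizerIn Q Q = Q from
      le_antisymm inf_le_left (le_normalizerIn le_rfl), show normalizerIn P P = P from
      le_antisymm inf_le_left (le_normalizerIn le_rfl)]
  exact he.card_eq.ge

/-- A subgroup which is not good has a conjugate in `W` with larger `N_{PT}(P)`. -/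
theorem exists_larger (hP : P ≤ S) (hnot : ¬ Good F T P)
    (hgood : ∀ X : Subgroup Ω, X ≤ S → Nat.card P < Nat.card X →
      ∃ X₁, (W F E p).IsConj X X₁ ∧ Good F T X₁)
    (habove : ∀ X : Subgroup Ω, X ≤ S → Nat.card P < Nat.card X →
      J F E p X ≤ (W F E p).autGroup X) :
    ∃ P₂, (W F E p).IsConj P P₂ ∧
      Nat.card (normalizerIn (P ⊔ T) P) < Nat.card (normalizerIn (P₂ ⊔ T) P₂) := by
  have hF := hE.1.2.1
  have hT := hE.1.2.2.2.1
  have hPT : P < P ⊔ T :=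
    lt_of_le_of_ne le_sup_left fun h => hnot (good_of_ge hE hP h.symm)
  have hPTS := sup_le hP hT.1
  have := finite_of_le hPTS
  have hPY : P < normalizerIn (P ⊔ T) P := lt_normalizerIn (hS.to_le hPTS) hPT
  have hYS : normalizerIn (P ⊔ T) P ≤ S := (normalizerIn_le _ _).trans hPTS
  obtain ⟨Y₁, hY₁c, hY₁⟩ := hgood _ hYS (card_lt_of_lt hPY hYS)
  obtain ⟨ω, hω⟩ := isConj_iff.1 hY₁c
  obtain ⟨e₀, he₀, he₀v⟩ := exists_iso_restrict (φ := Y₁.subtype.comp ω.toMonoidHom) hω hPY.le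
  have hle₁ : Y₁ ≤ normalizerIn (imgHom (Y₁.subtype.comp ω.toMonoidHom) P ⊔ T)
      (imgHom (Y₁.subtype.comp ω.toMonoidHom) P) := fun y hy => by
    obtain ⟨x, hx⟩ := ω.surjective ⟨y, hy⟩
    rw [← show (Y₁.subtype.comp ω.toMonoidHom) x = y from congrArg Subtype.val hx]
    exact apply_mem_NT hE (W_isIso hω) hPY.le x x.2
  generalize imgHom (Y₁.subtype.comp ω.toMonoidHom) P = P₁ at e₀ he₀ he₀v hle₁
  have hP₁S : P₁ ≤ S := he₀.le_right
  have hY₁S : Y₁ ≤ S := hω.le_right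
  rcases hle₁.eq_or_lt with heq | hlt
  swap
  · exact ⟨P₁, he₀.isConj, hω.card_eq.trans_lt
      (card_lt_of_lt hlt ((normalizerIn_le _ _).trans (sup_le hP₁S hT.1)))⟩
  -- a fully normalized conjugate of `P₁`
  obtain ⟨P', hc', hP'⟩ := exists_fullyNormalized (F := F) hP₁S
  obtain ⟨ha', hr'⟩ := automized_receptive hS hF hP'
  obtain ⟨χ, hχ, -, himg⟩ := exists_map_normalizerIn hS ha' hr' hc'
  obtain ⟨Z, hZ⟩ : ∃ Z, Z = normalizerIn (P' ⊔ T) P' := ⟨_, rfl⟩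
  have hcPP' : F.IsConj P P' := isConj_trans (W_isConj he₀.isConj) hc'
  have hltZ : Nat.card Y₁ < Nat.card Z := by
    have hex : ∃ Q, F.IsConj P Q ∧
        Nat.card (normalizerIn (P ⊔ T) P) < Nat.card (normalizerIn (Q ⊔ T) Q) := by
      by_contra hne
      push Not at hne
      exact hnot ⟨hP, hne⟩
    obtain ⟨Q, hQ, hQlt⟩ := hex
    rw [← hω.card_eq, hZ]
    exact hQlt.trans_le ((good_of_fullyNormalized hS hE hP').2 Q
      (isConj_trans (isConj_symm hcPP') hQ))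
  have hY₁N : Y₁ ≤ normalizerIn S P₁ := heq.le.trans (NT_le hE hP₁S)
  have hP₁Y : P₁ ≤ Y₁ := (le_normalizerIn le_sup_left).trans heq.ge
  obtain ⟨eY, heY, heYv⟩ := exists_iso_restrict hχ hY₁N
  have hY'Z : imgHom χ Y₁ ≤ Z := by
    rw [hZ]
    rintro _ ⟨x, hx, rfl⟩
    exact himg ▸ apply_mem_NT hE hχ (le_normalizerIn hP₁S) x (heq.le hx)
  have hP'Y' : P' ≤ imgHom χ Y₁ := himg ▸ imgHom_mono χ hP₁Y
  generalize imgHom χ Y₁ = Y' at eY heY heYv hY'Z hP'Y'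
  have hZS : Z ≤ S := hZ ▸ (normalizerIn_le _ _).trans (sup_le hP'.1 hT.1)
  have hY'S : Y' ≤ S := heY.le_right
  have := finite_of_le hZS
  have hY'lt : Y' < Z := lt_of_le_of_ne hY'Z fun h => by
    rw [← h, heY.card_eq] at hltZ
    exact lt_irrefl _ hltZ
  obtain ⟨Y'', hY''⟩ : ∃ Y'', Y'' = normalizerIn Z Y' := ⟨_, rfl⟩
  have hY'lt' : Y' < Y'' := hY'' ▸ lt_normalizerIn (hS.to_le hZS) hY'lt
  have hY''S : Y'' ≤ S := hY'' ▸ (normalizerIn_le _ _).trans hZS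
  -- a fully normalized conjugate of `Y'`
  obtain ⟨Ys, hcs, hYs⟩ := exists_fullyNormalized (F := F) hY'S
  obtain ⟨has, hrs⟩ := automized_receptive hS hF hYs
  obtain ⟨θ, hθ, -, himgθ⟩ := exists_map_normalizerIn hS has hrs hcs
  have hY'N : Y' ≤ normalizerIn S Y' := le_normalizerIn hY'S
  obtain ⟨eθ, heθ, heθv⟩ := Fusion.exists_iso (restrict_mem hθ hY'N)
    ((range_restrictHom θ hY'N).trans himgθ)
  obtain ⟨e₁, χ₁, he₁, hχ₁, hv₁⟩ :=
    exists_NT_iso hS hE hY₁ hYs (isConj_trans heY.isConj hcs)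
  have := finite_of_le hYs.1
  have := finite_mulAut (V := Ys)
  obtain ⟨a, had⟩ : ∃ a : MulAut Ys, a = e₁.symm.trans (eY.trans eθ) := ⟨_, rfl⟩
  have haF : a ∈ F.autGroup Ys := had ▸ (he₁.symm.trans (heY.trans heθ)).mem_autGroup
  obtain ⟨l, hl, hn⟩ := exists_normalizing_mul (autRT_le_J hS hE hYs.1) (isSylowIn_J hS hE hYs)
    fun g hg => J_conj_mem (E := E) (p := p) hYs.1 haF hg
  obtain ⟨n, hnd⟩ : ∃ n, n = l * a := ⟨_, rfl⟩
  rw [← hnd] at hn
  have hnF : n ∈ F.autGroup Ys := hnd ▸ mul_mem (J_le_autGroup hS hE hl) haF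
  obtain ⟨ν, hν, hνv⟩ := exists_extension (T := normalizerIn (Ys ⊔ T) Ys) hrs
    ((mem_autGroup_iff hYs.1).1 hnF) fun x hx => by
      refine mem_extender_of_congr (NT_le hE hYs.1 hx)
        (α := Ys.normalizerMonoidHom ⟨x, hx.2⟩) (fun _ => rfl) ?_
      rw [congr_self_eq]
      exact autInducedBy_mono (sup_le hYs.1 hT.1) Ys
        (hn _ (mem_autInducedBy_iff.2 ⟨x, hx.1, hx.2, fun _ => rfl⟩))
  have hYsN : Ys ≤ normalizerIn (Ys ⊔ T) Ys := le_normalizerIn le_sup_left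
  have hνimg : imgHom ν Ys = Ys := imgHom_eq_of_agree hYsN hνv
  obtain ⟨En, -, hEnv⟩ := Fusion.exists_iso hν (Q := normalizerIn (Ys ⊔ T) Ys) (by
    have := finite_of_le ((NT_le hE (T := T) hYs.1).trans (normalizerIn_le S Ys))
    refine Subgroup.eq_of_le_of_card_ge ?_ ?_
    · rintro _ ⟨x, rfl⟩
      have h1 := apply_mem_NT hE hν hYsN x x.2
      rwa [hνimg] at h1
    · rw [← imgHom_self, card_imgHom (F.injective_of_mem hν) le_rfl])
  obtain ⟨j, hjd⟩ : ∃ j, j = n⁻¹ * l⁻¹ * n := ⟨_, rfl⟩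
  have hj : j ∈ J F E p Ys := by
    have h1 := J_conj_mem (E := E) (p := p) hYs.1 (inv_mem hnF) (inv_mem hl)
    rwa [inv_inv, ← hjd] at h1
  have hnj : n * j = a := by rw [hjd, hnd]; group
  obtain ⟨j₁, hj₁d⟩ : ∃ j₁, j₁ = MulAut.congr e₁.symm j := ⟨_, rfl⟩
  have hj₁ : IsIso (W F E p) j₁ := (mem_autGroup_iff hY₁S).1 (habove Y₁ hY₁S
    (hω.card_eq ▸ card_lt_of_lt hPY hYS) (hj₁d ▸ congr_mem_J he₁.symm hj))
  obtain ⟨e₂, he₂, he₂v⟩ :=
    exists_iso_restrict (φ := Y₁.subtype.comp j₁.toMonoidHom) hj₁ hP₁Y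
  have hsup : Y₁ ≤ imgHom (Y₁.subtype.comp j₁.toMonoidHom) P₁ ⊔ T := fun y hy => by
    obtain ⟨x, hx⟩ := j₁.surjective ⟨y, hy⟩
    rw [← show (Y₁.subtype.comp j₁.toMonoidHom) x = y from congrArg Subtype.val hx]
    exact apply_mem_sup hE (W_isIso hj₁) hP₁Y x (heq.le x.2).1
  generalize imgHom (Y₁.subtype.comp j₁.toMonoidHom) P₁ = P₂ at e₂ he₂ he₂v hsup
  refine ⟨P₂, isConj_trans he₀.isConj he₂.isConj, ?_⟩
  obtain ⟨Φ, hΦd⟩ : ∃ Φ, Φ = χ₁.trans En := ⟨_, rfl⟩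
  have hY₁N' : Y₁ ≤ normalizerIn (Y₁ ⊔ T) Y₁ := le_normalizerIn le_sup_left
  have hΦ : ∀ x : Y₁, (Φ ⟨(j₁ x : Ω), hY₁N' (j₁ x).2⟩ : Ω) = θ ⟨eY x, hY'N (eY x).2⟩ := fun x => by
    rw [hΦd]
    show (En (χ₁ ⟨(j₁ x : Ω), _⟩) : Ω) = _
    rw [hEnv, show χ₁ ⟨(j₁ x : Ω), hY₁N' (j₁ x).2⟩ = ⟨(e₁ (j₁ x) : Ω), hYsN (e₁ (j₁ x)).2⟩ from
      Subtype.ext (hv₁ _), hνv, hj₁d]
    show (n (e₁ (e₁.symm (j (e₁ x)))) : Ω) = _
    rw [MulEquiv.apply_symm_apply, ← MulAut.mul_apply, hnj, had]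
    show (eθ (eY (e₁.symm (e₁ x))) : Ω) = _
    rw [MulEquiv.symm_apply_apply, heθv]
    rfl
  have hY''N : ∀ y : Y'', (y : Ω) ∈ normalizerIn (Y' ⊔ T) Y' := fun y => by
    have hy : (y : Ω) ∈ normalizerIn Z Y' := hY'' ▸ y.2
    exact ⟨sup_le_sup_right hP'Y' T (hZ ▸ hy.1 : (y : Ω) ∈ normalizerIn (P' ⊔ T) P').1, hy.2⟩
  have hθy : ∀ y : Y'', θ ⟨y, NT_le hE hY'S (hY''N y)⟩ ∈ normalizerIn (Ys ⊔ T) Ys := fun y => by
    have h1 := apply_mem_NT hE hθ hY'N ⟨y, NT_le hE hY'S (hY''N y)⟩ (hY''N y)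
    rwa [himgθ] at h1
  obtain ⟨g, hgd⟩ : ∃ g : Y'' → normalizerIn (Y₁ ⊔ T) Y₁,
      ∀ y, (Φ (g y) : Ω) = θ ⟨y, NT_le hE hY'S (hY''N y)⟩ :=
    ⟨fun y => Φ.symm ⟨_, hθy y⟩, fun y => by rw [MulEquiv.apply_symm_apply]⟩
  have hgP : ∀ y, (g y : Ω) ∈ normalizerIn (P₂ ⊔ T) P₂ := fun y => by
    refine ⟨sup_le hsup le_sup_right (g y).2.1, ?_⟩
    have := finite_of_le he₂.le_right
    refine SatCriterion.mem_normalizer_of_finite fun z hz => ?_
    obtain ⟨x, hx⟩ := e₂.surjective ⟨z, hz⟩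
    have hzv : z = (j₁ ⟨x, hP₁Y x.2⟩ : Ω) := (congrArg Subtype.val hx).symm.trans (he₂v x)
    have hxP' : (eY ⟨x, hP₁Y x.2⟩ : Ω) ∈ P' := by
      rw [heYv, ← himg]
      exact apply_mem_imgHom χ (x := ⟨x, hY₁N (hP₁Y x.2)⟩) x.2
    have hy : (y : Ω) ∈ Subgroup.normalizer (P' : Set Ω) :=
      (hZ ▸ (hY'' ▸ y.2 : (y : Ω) ∈ normalizerIn Z Y').1 : (y : Ω) ∈ normalizerIn (P' ⊔ T) P').2
    have hw := (Subgroup.mem_normalizer_iff.1 hy _).1 hxP'
    obtain ⟨⟨x', hx'N⟩, hx', hx'v⟩ := himg.ge hw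
    have hkey : Φ (g y * ⟨z, hzv ▸ hY₁N' (Subtype.mem _)⟩ * (g y)⁻¹) =
        Φ ⟨(j₁ ⟨x', hP₁Y hx'⟩ : Ω), hY₁N' (Subtype.mem _)⟩ := Subtype.ext (by
      rw [hΦ, map_mul, map_mul, map_inv, Subgroup.coe_mul, Subgroup.coe_mul, Subgroup.coe_inv,
        hgd, show (⟨z, _⟩ : normalizerIn (Y₁ ⊔ T) Y₁) =
          ⟨(j₁ ⟨x, hP₁Y x.2⟩ : Ω), hY₁N' (Subtype.mem _)⟩ from Subtype.ext hzv, hΦ,
        ← map_inv, ← map_mul, ← map_mul]
      exact congrArg θ (Subtype.ext (hx'v.symm.trans (heYv ⟨x', hP₁Y hx'⟩).symm)))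
    rw [show (g y : Ω) * z * (g y : Ω)⁻¹ = (e₂ ⟨x', hx'⟩ : Ω) from
      (congrArg Subtype.val (Φ.injective hkey)).trans (he₂v ⟨x', hx'⟩).symm]
    exact Subtype.mem _
  have := finite_of_le ((normalizerIn_le _ _).trans (sup_le he₂.le_right hT.1) :
    normalizerIn (P₂ ⊔ T) P₂ ≤ S)
  refine (show Nat.card (normalizerIn (P ⊔ T) P) < Nat.card Y'' from
    (hω.card_eq.trans heY.card_eq).trans_lt (card_lt_of_lt hY'lt' hY''S)).trans_le
      (Nat.card_le_card_of_injective (fun y => (⟨g y, hgP y⟩ : normalizerIn (P₂ ⊔ T) P₂))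
        fun a b hab => ?_)
  have h1 : (Φ (g a) : Ω) = Φ (g b) := congrArg (fun w => (Φ w : Ω))
    (Subtype.ext (congrArg Subtype.val hab :) : g a = g b)
  rw [hgd, hgd] at h1
  exact Subtype.ext (congrArg Subtype.val (F.injective_of_mem hθ h1) :)

/-- **Good conjugates exist in `W`, and `J P` lies in `W`.** -/
theorem exists_good_and_J_le (hP : P ≤ S) :
    (∃ P₁, (W F E p).IsConj P P₁ ∧ Good F T P₁) ∧ J F E p P ≤ (W F E p).autGroup P := by
  induction hd : Nat.card S - Nat.card P using Nat.strong_induction_on generalizing P with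
  | _ d ih =>
  have hup : ∀ X : Subgroup Ω, X ≤ S → Nat.card P < Nat.card X →
      (∃ X₁, (W F E p).IsConj X X₁ ∧ Good F T X₁) ∧ J F E p X ≤ (W F E p).autGroup X := by
    intro X hX hlt
    have := Subgroup.card_le_of_le hX
    exact ih (Nat.card S - Nat.card X) (by omega) hX rfl
  have hfin : {Q : Subgroup Ω | (W F E p).IsConj P Q}.Finite :=
    finite_subgroups.subset fun Q hQ => le_of_isConj_right hQ
  obtain ⟨P₁, hP₁, hmax⟩ := Set.exists_max_image _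
    (fun Q => Nat.card (normalizerIn (Q ⊔ T) Q)) hfin ⟨P, isConj_refl hP⟩
  have hc : Nat.card P = Nat.card P₁ := card_eq_of_isConj hP₁
  have hgood : Good F T P₁ := by
    by_contra hnot
    obtain ⟨P₂, hP₂, hlt⟩ := exists_larger hS hE (le_of_isConj_right hP₁) hnot
      (fun X hX h => (hup X hX (hc.trans_lt h)).1) (fun X hX h => (hup X hX (hc.trans_lt h)).2)
    exact (hmax P₂ (isConj_trans hP₁ hP₂)).not_gt hlt
  refine ⟨⟨P₁, hP₁, hgood⟩, fun g hg => ?_⟩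
  obtain ⟨w, hw⟩ := isConj_iff.1 hP₁
  have := congr_mem_autGroup hw.symm
    (J_le_W_good hS hE hgood (fun X hX h => (hup X hX (hc.trans_lt h)).2)
      (congr_mem_J (W_isIso hw) hg))
  rwa [congr_symm_congr] at this

end CfsgLib.FusionComponents.Henke
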