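import Cfsg.Agent.FusionComponents.Henke.Link
import Cfsg.Agent.FusionComponents.Henke.Step

/-!
# The system `W F E p` is saturated

The automizer of a member `R` of `HT F T` with the largest normalizer in its class is generated by
`Aut_S(R)` and `K F E p R`, and `R` is fully automized and receptive; the saturation criterion
gives the result.
-/

set_option autoImplicit false
set_option linter.unusedSectionVars false

namespace CfsgLib.FusionComponents.Henke

open Cfsg Cfsg.FusionSystem CfsgLib.Fusion CfsgLib.FusionClosed CfsgLib.FusionComponents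

variable {Ω : Type*} [Group Ω] {S T : Subgroup Ω} {F : FusionSystem S} {E : FusionSystem T}
  {P R : Subgroup Ω} {p n : ℕ}

variable [Finite S] [Fact p.Prime] (hS : IsPGroup p S) (hE : E.IsNormalIn F p)
include hS hE

/-- The class of `S` is saturated. -/
theorem satClass_self : SatCriterion.SatClass (W F E p) p S := by
  refine ⟨S, isConj_refl le_rfl, ⟨le_rfl, ?_⟩, le_rfl, fun Q φ hφ hr => ?_⟩
  · have := finite_mulAut (V := S)
    exact IsSylowIn.mono (H := F.autGroup S)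
      (automized_receptive hS hE.1.2.1 (isFullyNormalized_self (F := F))).1.2
      (autInducedBy_le_autGroup le_rfl)
      fun a ha => (mem_autGroup_iff le_rfl).2 (W_le _ ((mem_autGroup_iff le_rfl).1 ha))
  · obtain ⟨k, hk, -⟩ := Fusion.exists_iso hφ hr
    obtain rfl : Q = S := eq_S_of_isConj (isConj_symm hk.isConj)
    exact ⟨restrictHom φ ((extender_le_normalizerIn φ).trans (normalizerIn_le _ _)),
      restrict_mem hφ _, fun x hx hxN => rfl⟩

section

variable (habove : Above F E p n) (hRS : R ≤ S) (hH : HT F T R) (hn : Nat.card R = n)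
  (hlt : R < S)
  (hmax : ∀ Q, (W F E p).IsConj R Q →
    Nat.card (normalizerIn S Q) ≤ Nat.card (normalizerIn S R))
include habove hRS hH hn hlt hmax

/-- Every member of the class maps its normalizer into that of `R`. -/
theorem exists_isExt {Q : Subgroup Ω} (hQ : (W F E p).IsConj Q R) :
    ∃ f : Q ≃* R, IsExt (W F E p) f := by
  have hT := hE.1.2.2.2.1
  obtain ⟨k, hk⟩ := isConj_iff.1 hQ
  obtain ⟨L, f, g, hf, hg, -⟩ := linkSystem hE hS habove (hn ▸ card_lt_of_lt hlt le_rfl) hk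
    (hH.of_isConj hT (W_isConj (isConj_symm hQ))) (hk.card_eq.trans hn)
  exact ⟨_, hf.trans hk.le_left (hg.symm hRS (hmax L (hg.isIso hRS).isConj))⟩

theorem good_of_max : Good F T R := by
  obtain ⟨⟨P₁, hP₁, hgood⟩, -⟩ := exists_good_and_J_le hS hE hRS
  obtain ⟨f, φ, hφ, hv⟩ := exists_isExt hS hE habove hRS hH hn hlt hmax (isConj_symm hP₁)
  have hle := NT_le hE (T := T) hgood.1
  have himg : imgHom φ P₁ = R :=
    imgHom_eq_of_agree (le_normalizerIn hgood.1) hv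
  exact hgood.of_card (W_isConj (isConj_symm hP₁)) (card_NT_le hE (W_le _ hφ) hle himg)

/-- The automizer of `R`. -/
theorem autGroup_le : (W F E p).autGroup R ≤ K F E p R ⊔ autInducedBy S R := by
  intro a ha
  have hT := hE.1.2.2.2.1
  have haI : IsIso (W F E p) a := (mem_autGroup_iff hRS).1 ha
  obtain ⟨L, f, g, hf, hg, hj⟩ :=
    linkSystem hE hS habove (hn ▸ card_lt_of_lt hlt le_rfl) haI hH hn
  have hgs : IsExt (W F E p) g.symm := hg.symm hRS (hmax L (hg.isIso hRS).isConj)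
  obtain ⟨φ, hφ, hφv⟩ := hf.trans hRS hgs
  have hRN : R ≤ normalizerIn S R := le_normalizerIn hRS
  have himg : imgHom φ R = R := imgHom_eq_of_agree hRN hφv
  obtain ⟨N, hN⟩ : ∃ N, N = normalizerIn S R := ⟨_, rfl⟩
  have hNS : N ≤ S := hN ▸ normalizerIn_le S R
  have hRN' : R ≤ N := hN ▸ hRN
  have := finite_of_le hNS
  have := finite_mulAut (V := N)
  obtain ⟨η, hη, hηv⟩ := Fusion.exists_iso hφ (Q := normalizerIn S R) (by
    have := finite_of_le (normalizerIn_le S R)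
    refine Subgroup.eq_of_le_of_card_ge ?_ ?_
    · have := SatCriterion.range_le_normalizerIn hφ hRN le_rfl
      rwa [himg] at this
    · rw [← Nat.card_congr (MonoidHom.ofInjective ((W F E p).injective_of_mem hφ)).toEquiv])
  subst hN
  have hηR : ∀ x : normalizerIn S R, (η x : Ω) ∈ R ↔ (x : Ω) ∈ R := fun x => by
    have h1 := mem_imgHom_apply_iff (R := R) (x := x) ((W F E p).injective_of_mem hφ)
    rw [himg] at h1
    rw [hηv]
    exact h1
  have hηA : (η : MulAut _) ∈ SatCriterion.stab (W F E p) (normalizerIn S R) R :=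
    ⟨hη.mem_autGroup, hηR⟩
  obtain ⟨Sig, hSigA, hInnS, hSigp, hSig⟩ := SatCriterion.exists_sylowIn_ge
    (SatCriterion.autInducedBy_le_stab (F := W F E p) hRN (normalizerIn_le S R) le_rfl)
    (isPGroup_autInducedBy (hS.to_le (normalizerIn_le S R)) (normalizerIn S R))
  obtain ⟨o, ho, s, hs, hos⟩ := exists_mul_of_isSylowIn hSigA hSig hηA
  have hnN : n < Nat.card (normalizerIn S R) :=
    hn ▸ card_lt_of_lt (lt_normalizerIn hS hlt) (normalizerIn_le S R)
  obtain ⟨V, θ, hθ, -, hθc⟩ := SatCriterion.exists_iso_sylow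
    (habove _ (hH.of_le hT hRN) (normalizerIn_le S R) hnN)
    (fun a ha => (hSigA ha).1) hSigp
  -- `Sig` consists of inner automorphisms
  have hsInn : s ∈ Inn (normalizerIn S R) := by
    obtain ⟨e₁, he₁, he₁v⟩ := exists_iso_restrict (φ := V.subtype.comp θ.toMonoidHom) hθ hRN
    have hVle : V ≤ normalizerIn S (imgHom (V.subtype.comp θ.toMonoidHom) R) := by
      have h1 := SatCriterion.range_le_normalizerIn hθ hRN le_rfl
      rwa [range_subtype_comp] at h1
    generalize imgHom (V.subtype.comp θ.toMonoidHom) R = R₁ at e₁ he₁ he₁v hVle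
    have hVeq : V = normalizerIn S R₁ := by
      have := finite_of_le (normalizerIn_le S R₁)
      exact Subgroup.eq_of_le_of_card_ge hVle ((hmax R₁ he₁.isConj).trans hθ.card_eq.le)
    obtain ⟨v, hv, hvN, hvv⟩ := mem_autInducedBy_iff.1 (hθc s hs)
    have hvV : v ∈ V := by
      rw [hVeq]
      refine ⟨hv, ?_⟩
      have := finite_of_le he₁.le_right
      refine SatCriterion.mem_normalizer_of_finite fun y hy => ?_
      obtain ⟨r, hr⟩ := e₁.surjective ⟨y, hy⟩
      have hyv : y = (θ ⟨r, hRN r.2⟩ : Ω) := (congrArg Subtype.val hr).symm.trans (he₁v r)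
      rw [hyv, ← hvv (θ ⟨r, hRN r.2⟩), congr_apply]
      have hsr : (s ⟨r, hRN r.2⟩ : Ω) ∈ R := ((hSigA hs).2 _).2 r.2
      rw [show (θ (s ⟨r, hRN r.2⟩) : Ω) = e₁ ⟨_, hsr⟩ from (he₁v ⟨_, hsr⟩).symm]
      exact Subtype.mem _
    have h1 : MulAut.congr θ s ∈ Inn V := by
      rw [Inn_eq]
      exact mem_autInducedBy_iff.2 ⟨v, hvV, hvN, hvv⟩
    have h2 := congr_Inn (e := θ.symm) h1
    rwa [congr_symm_congr] at h2
  -- restrict to `R`
  have hoA := coprimeGen_le _ ho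
  obtain ⟨o₁, ho₁⟩ : ∃ o₁, o₁ = SatCriterion.res (W F E p) hRN ⟨o, hoA⟩ := ⟨_, rfl⟩
  obtain ⟨s₁, hs₁⟩ : ∃ s₁, s₁ = SatCriterion.res (W F E p) hRN ⟨s, hSigA hs⟩ := ⟨_, rfl⟩
  have ho₁K : o₁ ∈ K F E p R := ho₁ ▸ res_mem_K hS hE hRN (normalizerIn_le S R) ho hoA
  have hs₁S : s₁ ∈ autInducedBy S R := by
    obtain ⟨u, hu⟩ := hsInn
    refine mem_autInducedBy_iff.2 ⟨u, u.2.1, u.2.2, fun r => ?_⟩
    rw [hs₁, SatCriterion.res_apply]
    show (s ⟨r, hRN r.2⟩ : Ω) = _
    rw [← hu]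
    rfl
  have h0 : (f.trans g.symm : MulAut R) = o₁ * s₁ := by
    rw [ho₁, hs₁, ← map_mul, show (⟨o, hoA⟩ : SatCriterion.stab (W F E p) (normalizerIn S R) R) *
      ⟨s, hSigA hs⟩ = ⟨η, hηA⟩ from Subtype.ext hos]
    exact MulEquiv.ext fun x => Subtype.ext (((hηv _).trans (hφv x (hRN x.2))).symm)
  have h0mem : (f.trans g.symm : MulAut R) ∈ K F E p R ⊔ autInducedBy S R :=
    h0 ▸ mul_mem (Subgroup.mem_sup_left ho₁K) (Subgroup.mem_sup_right hs₁S)
  convert mul_mem (Subgroup.mem_sup_left (T := autInducedBy S R)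
    (congr_mem_K hE (W_isIso (hg.isIso hRS).symm) hj)) h0mem using 1
  ext x
  simp [MulAut.congr]

theorem isSylowIn_autInducedBy :
    IsSylowIn p ((W F E p).autGroup R) (autInducedBy S R) := by
  have hT := hE.1.2.2.2.1
  have := finite_of_le hRS
  have := finite_mulAut (V := R)
  have hgood := good_of_max hS hE habove hRS hH hn hlt hmax
  have hA : autInducedBy S R ≤ (W F E p).autGroup R := autInducedBy_le_autGroup hRS
  obtain ⟨Sy, hSyA, hle, hSyp, hSy⟩ :=
    SatCriterion.exists_sylowIn_ge hA (isPGroup_autInducedBy hS R)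
  suffices heq : autInducedBy S R = Sy from heq ▸ hSy
  refine le_antisymm hle fun x hx => ?_
  obtain ⟨k, hk, a, ha, rfl⟩ := exists_mul_of_sup (fun y hy z hz => by
      rw [← congr_self_eq]
      exact congr_mem_K hE ((mem_autGroup_iff hRS).1 (autInducedBy_le_autGroup hRS hy)) hz)
    (autGroup_le hS hE habove hRS hH hn hlt hmax (hSyA hx))
  refine mul_mem ?_ ha
  have hkS : k ∈ Sy := by
    have h1 := mul_mem hx (inv_mem (hle ha))
    rwa [mul_inv_cancel_right] at h1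
  have hBS : autInducedBy (R ⊔ T) R ≤ autInducedBy S R :=
    autInducedBy_mono (sup_le hRS hT.1) R
  have hB : autInducedBy (R ⊔ T) R ≤ Sy ⊓ J F E p R :=
    le_inf (hBS.trans hle) (autRT_le_J hS hE hRS)
  obtain ⟨-, hmaxB⟩ := (isSylowIn_iff (autRT_le_J hS hE hRS)).1 (isSylowIn_J_good hS hE hgood)
  have heqB := Subgroup.eq_of_le_of_card_ge hB
    (hmaxB _ inf_le_right (hSyp.to_le inf_le_left))
  exact hBS (heqB.ge ⟨hkS, K_le_J hS hE hRS hH hk⟩)

theorem isReceptive_of_max : (W F E p).IsReceptive R := by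
  refine ⟨hRS, fun Q φ hφ hr => ?_⟩
  have hgood := good_of_max hS hE habove hRS hH hn hlt hmax
  obtain ⟨k, hk, hkv⟩ := Fusion.exists_iso hφ hr
  obtain ⟨f, τ, hτ, hτv⟩ := exists_isExt hS hE habove hRS hH hn hlt hmax hk.isConj
  have hQS : Q ≤ S := hk.le_left
  have hfI : IsIso (W F E p) f := IsExt.isIso hQS ⟨τ, hτ, hτv⟩
  obtain ⟨γ, hγdef⟩ : ∃ γ : MulAut R, γ = f.symm.trans k := ⟨_, rfl⟩
  have hγ : γ ∈ (W F E p).autGroup R := hγdef ▸ IsIso.mem_autGroup (hfI.symm.trans hk)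
  have hQN : Q ≤ normalizerIn S Q := le_normalizerIn hQS
  obtain ⟨N, hN⟩ : ∃ N, N = imgHom τ (extender S Q φ) := ⟨_, rfl⟩
  have hNS : N ≤ S := hN ▸ imgHom_le hτ _
  have himg : imgHom τ Q = R := imgHom_eq_of_agree hQN hτv
  have hQe : Q ≤ extender S Q φ := le_extender hQS fun x => apply_mem hφ x
  have hI : Inn R ≤ autInducedBy N R := by
    rw [Inn_eq]
    refine autInducedBy_mono ?_ R
    rw [hN, ← himg]
    exact imgHom_mono τ hQe
  have hNle : N ≤ kNormalizer S R (autInducedBy N R) := by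
    intro x hx
    have hxN : x ∈ Subgroup.normalizer (R : Set Ω) := by
      rw [hN] at hx
      obtain ⟨y, -, rfl⟩ := hx
      exact himg ▸ (SatCriterion.apply_mem_normalizerIn hτ hQN le_rfl y).2
    exact mem_kNormalizer.2 ⟨hNS hx, R.normalizerMonoidHom ⟨x, hxN⟩,
      mem_autInducedBy_iff.2 ⟨x, hx, hxN, fun _ => rfl⟩, fun _ => rfl⟩
  obtain ⟨ε, hε, hεv⟩ := exists_goodExt hS hE hgood hH
    (isSylowIn_autInducedBy hS hE habove hRS hH hn hlt hmax) hγ hI (autInducedBy_mono hNS R)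
    fun z hz => by
      obtain ⟨x, hx, -, hxv⟩ := mem_autInducedBy_iff.1 hz
      rw [hN] at hx
      obtain ⟨⟨y, hyN⟩, hy, rfl⟩ := hx
      obtain ⟨-, hyn, d, hd, hdv⟩ := mem_extender_iff.1 (hy : y ∈ extender S Q φ)
      refine Subgroup.subset_closure ⟨d, hd, fun r => ?_⟩
      obtain ⟨r', rfl⟩ := γ.surjective r
      obtain ⟨q, rfl⟩ := f.surjective r'
      have hyq : y * (q : Ω) * y⁻¹ ∈ Q := (Subgroup.mem_normalizer_iff.1 hyn q).1 q.2
      have h1 : z (f q) = f ⟨_, hyq⟩ := Subtype.ext (by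
        rw [hxv, ← hτv q (hQN q.2), ← hτv ⟨_, hyq⟩ (hQN hyq), ← map_inv, ← map_mul, ← map_mul]
        rfl)
      have hγq : ∀ q : Q, (γ (f q) : Ω) = φ q := fun q => by
        rw [hγdef, MulEquiv.trans_apply, f.symm_apply_apply, hkv]
      show (γ (z (γ⁻¹ (γ (f q)))) : Ω) = _
      rw [MulAut.inv_apply_self, h1, hγq, hγq]
      exact hdv q hyq
  have hle : extender S Q φ ≤ normalizerIn S Q := extender_le_normalizerIn φ
  refine ⟨_, (W F E p).comp_mem (restrict_mem hτ hle) hε fun x =>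
    hNle (hN ▸ ⟨⟨x, hle x.2⟩, x.2, rfl⟩), fun x hx hxN => ?_⟩
  show ε ⟨τ ⟨x, _⟩, _⟩ = φ ⟨x, hx⟩
  have h1 : τ ⟨x, hle hxN⟩ = (f ⟨x, hx⟩ : Ω) := hτv ⟨x, hx⟩ _
  refine (congrArg ε (Subtype.ext h1)).trans
    ((hεv (f ⟨x, hx⟩) (le_kNormalizer hRS hI (f ⟨x, hx⟩).2)).trans ?_)
  rw [hγdef, MulEquiv.trans_apply, f.symm_apply_apply, hkv]

end

/-- The classes in `HT F T` are saturated. -/
theorem satClass_of_HT (hP : P ≤ S) (hH : HT F T P) : SatCriterion.SatClass (W F E p) p P := by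
  induction hd : Nat.card S - Nat.card P using Nat.strong_induction_on generalizing P with
  | _ d ih =>
  obtain ⟨R, hR, hmax⟩ := Set.exists_max_image {Q : Subgroup Ω | (W F E p).IsConj P Q}
    (fun Q => Nat.card (normalizerIn S Q))
    (finite_subgroups.subset fun Q hQ => le_of_isConj_right hQ) ⟨P, isConj_refl hP⟩
  have hRS : R ≤ S := le_of_isConj_right hR
  rcases hRS.eq_or_lt with rfl | hlt
  · obtain rfl : P = R := eq_S_of_isConj (isConj_symm hR)
    exact satClass_self hS hE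
  have hc : Nat.card P = Nat.card R := card_eq_of_isConj hR
  have habove : Above F E p (Nat.card P) := fun X hX hXS hltX => by
    have := Subgroup.card_le_of_le hXS
    exact ih (Nat.card S - Nat.card X) (by omega) hXS hX rfl
  have hRH : HT F T R := hH.of_isConj hE.1.2.2.2.1 (W_isConj hR)
  have hmax' : ∀ Q, (W F E p).IsConj R Q →
      Nat.card (normalizerIn S Q) ≤ Nat.card (normalizerIn S R) := fun Q hQ =>
    hmax Q (isConj_trans hR hQ)
  exact ⟨R, hR, ⟨hRS, isSylowIn_autInducedBy hS hE habove hRS hRH hc.symm hlt hmax'⟩,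
    isReceptive_of_max hS hE habove hRS hRH hc.symm hlt hmax'⟩

/-- **The system `W F E p` is saturated.** -/
theorem W_isSaturated : (W F E p).IsSaturated p := by
  have hF := hE.1.2.1
  have hT := hE.1.2.2.2.1
  refine SatCriterion.isSaturated hS {P | P ≤ S ∧ HT F T P}
    (fun P hP Q hQ => ⟨le_of_isConj_right hQ, hP.2.of_isConj hT (W_isConj hQ)⟩)
    (fun P hP => satClass_of_HT hS hE hP.1 hP.2) (fun L hL => le_of_K_le fun P hP => ?_) ?_
  · intro k hk
    by_cases hPS : P ≤ S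
    · exact (mem_autGroup_iff hPS).2
        (hL P ⟨hPS, hP⟩ ((mem_autGroup_iff hPS).1 (K_le_W hP hk)))
    · have h1 := K_le_autGroup hk
      rw [autGroup_eq_bot hPS, Subgroup.mem_bot] at h1
      rw [h1]
      exact one_mem _
  intro P hPc hPH
  obtain ⟨⟨Q, hQ, hgood⟩, -⟩ := exists_good_and_J_le hS hE hPc.1
  refine ⟨Q, hQ, fun hle => ?_⟩
  obtain ⟨Q', hc, hQ'⟩ := exists_fullyNormalized (F := F) hgood.1
  obtain ⟨e, χ, he, hχ, hv⟩ := exists_NT_iso hS hE hgood hQ' hc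
  have hH' : ¬ HT F T Q' := fun h => hPH ⟨hPc.1,
    h.of_isConj hT (isConj_symm (isConj_trans (W_isConj hQ) hc))⟩
  obtain ⟨x', hx', hx'Q⟩ := Set.exists_of_ssubset (lt_ext1 hS hF hT hQ' hH')
  obtain ⟨hx'RT, z, hz, hzv⟩ := mem_kNormalizer.1 hx'
  have hx'N : x' ∈ normalizerIn (Q' ⊔ T) Q' :=
    ⟨hx'RT, (ext1_le_normalizerIn hT hQ'.1 hx').2⟩
  obtain ⟨x₀, hx₀⟩ := χ.surjective ⟨x', hx'N⟩
  obtain ⟨c, hcd⟩ : ∃ c, c = Q.normalizerMonoidHom ⟨x₀, x₀.2.2⟩ := ⟨_, rfl⟩
  have hcv : ∀ q : Q, (c q : Ω) = x₀ * q * (x₀ : Ω)⁻¹ := fun q => by rw [hcd]; rfl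
  have hcS : c ∈ autInducedBy S Q :=
    mem_autInducedBy_iff.2 ⟨x₀, (NT_le hE hgood.1 x₀.2).1, x₀.2.2, hcv⟩
  have hcW : c ∈ (W F E p).autGroup Q := autInducedBy_le_autGroup hgood.1 hcS
  have hcK : c ∈ K2 F T Q ⊔ Inn Q := by
    have h1 : MulAut.congr e c = z := MulEquiv.ext fun r => Subtype.ext (by
      refine (congr_of_agree _ hv (x := x₀) (c := c) hcv r).trans ?_
      rw [hx₀]
      exact (hzv r).symm)
    have h2 := congr_mem_K2Inn hT he.symm hz
    rwa [← h1, congr_symm_congr] at h2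
  have hnorm : ((K2 F T Q ⊔ Inn Q).subgroupOf ((W F E p).autGroup Q)).Normal := ⟨fun a ha b => by
    have h1 := congr_mem_K2Inn hT
      (W_isIso ((mem_autGroup_iff hgood.1).1 b.2)) (Subgroup.mem_subgroupOf.1 ha)
    rw [congr_self_eq] at h1
    exact Subgroup.mem_subgroupOf.2 h1⟩
  have hp : IsPGroup p ↥((K2 F T Q ⊔ Inn Q).subgroupOf ((W F E p).autGroup Q)) := by
    refine IsPGroup.comap_of_injective ?_ _ (Subgroup.subtype_injective _)
    refine ((isPGroup_autInducedBy hS Q').comap_of_injective (MulAut.congr e).toMonoidHom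
      (MulAut.congr e).injective).to_le fun a ha => ?_
    exact K2Inn_le_autInducedBy hS hF hT hQ' (congr_mem_K2Inn hT he ha)
  have hcore : (⟨c, hcW⟩ : (W F E p).autGroup Q) ∈ pCore p ((W F E p).autGroup Q) :=
    (show _ ≤ pCore p ((W F E p).autGroup Q) from le_sSup ⟨hnorm, hp⟩)
      (Subgroup.mem_subgroupOf.2 hcK)
  obtain ⟨u, hu⟩ := hle ⟨hcS, ⟨⟨c, hcW⟩, hcore, rfl⟩⟩
  have hxu : (u : Ω)⁻¹ * x₀ ∈ centralizerIn S Q := by
    refine mem_centralizerIn'.2 ⟨S.mul_mem (S.inv_mem (hgood.1 u.2)) (NT_le hE hgood.1 x₀.2).1,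
      fun q hq => ?_⟩
    have h1 : (u : Ω) * q * (u : Ω)⁻¹ = x₀ * q * (x₀ : Ω)⁻¹ := by
      have h2 : MulAut.conj u ⟨q, hq⟩ = c ⟨q, hq⟩ := by rw [hu]
      exact (congrArg Subtype.val h2).trans (hcv ⟨q, hq⟩)
    calc (u : Ω)⁻¹ * x₀ * q * ((u : Ω)⁻¹ * x₀)⁻¹
        = (u : Ω)⁻¹ * (x₀ * q * (x₀ : Ω)⁻¹) * u := by group
      _ = q := by rw [← h1]; group
  have hx₀Q : (x₀ : Ω) ∈ Q := by
    have h1 := Q.mul_mem u.2 (centralizerIn_le_of_centric (isCentric_of_isConj hPc hQ) hxu)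
    rwa [mul_inv_cancel_left] at h1
  refine hx'Q ?_
  have h3 := hv ⟨x₀, hx₀Q⟩
  rw [show (⟨(x₀ : Ω), le_normalizerIn le_sup_left hx₀Q⟩ : normalizerIn (Q ⊔ T) Q) = x₀ from
    Subtype.ext rfl, hx₀] at h3
  exact (show x' = (e ⟨x₀, hx₀Q⟩ : Ω) from h3) ▸ Subtype.mem _

end CfsgLib.FusionComponents.Henke
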