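import Cfsg.Agent.FusionComponents.Henke.Sat
import Cfsg.Agent.FusionPIndex.Limit
import Cfsg.Agent.Fusion.PPowerIndex

/-!
# Systems over `R` in which a normal subsystem has `p`-power index

For `E` over `T` normal in `F` and `T ≤ R ≤ S` there is exactly one saturated subsystem of `F` over
`R` in which `E` has `p`-power index.
-/

set_option autoImplicit false
set_option linter.unusedSectionVars false

namespace CfsgLib.FusionComponents.Henke

open Cfsg Cfsg.FusionSystem CfsgLib.Fusion CfsgLib.FusionClosed CfsgLib.FusionComponents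
  CfsgLib.FusionAgemo

variable {Ω : Type*} [Group Ω] {S T U V : Subgroup Ω} {F : FusionSystem S} {E : FusionSystem T}
  {D : FusionSystem U} {X : FusionSystem V} {P R : Subgroup Ω} {p : ℕ}

theorem stronglyClosed_of_le (hT : F.StronglyClosed T) (hTU : T ≤ U) (hD : D.IsSubsystemOf F) :
    D.StronglyClosed T :=
  ⟨hTU, fun R hR φ hφ x => hT.2 R hR φ (hD R hφ) x⟩

theorem coe_mem_coprimeGen_of_pResidual {G : Type*} [Group G] {A : Subgroup G} {a : A}
    (ha : a ∈ pResidual p A) : (a : G) ∈ coprimeGen p A :=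
  coprimeGen_eq_map (p := p) A ▸ ⟨a, ha, rfl⟩

variable [Finite S] [Fact p.Prime] (hS : IsPGroup p S) (hE : E.IsNormalIn F p)
include hS hE

omit hS in
/-- The condition `HT` may be checked in a subsystem containing `E`. -/
theorem HT_of_sub (hED : E.IsSubsystemOf D) (hH : HT D T P) : HT F T P := by
  have hcen : E.IsCentric (P ⊓ T) := ⟨inf_le_right, fun Q hQ => hH.2 Q (by
    obtain ⟨φ, hφ, hr⟩ := hQ
    exact ⟨φ, hED _ hφ, hr⟩)⟩
  exact ⟨inf_le_right, fun Q hQ =>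
    FusionNormal.centralizerIn_le_of_isConj hE.1.2.2 hcen hQ⟩

/-- Outside `HT` all automorphisms extend. -/
theorem isIso_of_not_HT (hD : D.IsSaturated p) (hDF : D.IsSubsystemOf F) (hTU : T ≤ U)
    (hP : D.IsFullyNormalized P) (hH : ¬ HT D T P) (habove : MemAbove D X P) {α : MulAut P}
    (hα : α ∈ D.autGroup P) : IsIso X α := by
  have hUS : U ≤ S := le_left (hDF U (subtype_mem le_rfl))
  have := finite_of_le hUS
  have hUp : IsPGroup p U := hS.to_le hUS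
  have hT := stronglyClosed_of_le hE.1.2.2.2.1 hTU hDF
  obtain ⟨ψ, hψ, hψv, -⟩ :=
    exists_ext1_map hUp hD hT hP ((mem_autGroup_iff hP.1).1 hα)
  exact mem_of_agree (habove _ (card_lt_of_lt (lt_ext1 hUp hD hT hP hH) (le_left hψ)) ψ hψ)
    le_ext1 fun x => (hψv x _).symm

/-- The elements of order prime to `p` of systems in which `E` has `p`-power index. -/
theorem mem_AE_of_index (hDF : D.IsSubsystemOf F) (hED : E.HasPPowerIndexIn D p) (hP : P ≤ U)
    {α : MulAut P} (hα : α ∈ D.autGroup P) (hαp : (orderOf α).Coprime p) : α ∈ AE F E P := by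
  have hUS : U ≤ S := le_left (hDF U (subtype_mem le_rfl))
  have := finite_of_le hUS
  have hT := stronglyClosed_of_le hE.1.2.2.2.1 (le_left (hED.1 T (subtype_mem le_rfl))) hDF
  have hmem : ∀ {Q : Subgroup Ω} {a : MulAut Q}, a ∈ D.autGroup Q → (orderOf a).Coprime p →
      a ∈ (pResidual p (D.autGroup Q)).map (D.autGroup Q).subtype := fun {Q a} ha hap =>
    ⟨⟨a, ha⟩, Subgroup.subset_closure (show (orderOf _).Coprime p by rwa [Subgroup.orderOf_mk]),
      rfl⟩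
  have hαI : IsIso D α := (mem_autGroup_iff hP).1 hα
  have := finite_of_le hP
  obtain ⟨b, hb, hbv⟩ := exists_aut_restrict hαI (inf_le_left : P ⊓ T ≤ P)
    fun x hx => ⟨(α ⟨x, hx.1⟩).2, stronglyClosed_apply hT hαI (x := ⟨x, hx.1⟩) hx.2⟩
  have hbα : Agrees (inf_le_left : P ⊓ T ≤ P) b α := fun x => (hbv x).symm
  exact ⟨(mem_autGroup_iff (hP.trans hUS)).2 (hDF _ hαI),
    fun x => hED.2.1 (inv_mul_apply_mem_hyperfocal hP (hmem hα hαp) x),
    b, hED.2.2 _ inf_le_right (hmem hb (hbα.coprime hαp)), hbα⟩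

/-- **`W F E p` contains the saturated subsystems in which `E` has `p`-power index.** -/
theorem le_W (hD : D.IsSaturated p) (hDF : D.IsSubsystemOf F) (hED : E.HasPPowerIndexIn D p) :
    D.IsSubsystemOf (W F E p) := by
  have hUS : U ≤ S := le_left (hDF U (subtype_mem le_rfl))
  have hTU : T ≤ U := le_left (hED.1 T (subtype_mem le_rfl))
  have := finite_of_le hUS
  have hUp : IsPGroup p U := hS.to_le hUS
  refine isSubsystemOf_of_aut hUp hD fun P hP habove α hα => ?_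
  by_cases hH : HT D T P
  swap
  · exact isIso_of_not_HT hS hE hD hDF hTU hP hH habove hα
  have := finite_of_le hP.1
  have := finite_mulAut (V := P)
  have hPS := hP.1.trans hUS
  obtain ⟨x, hx, y, hy, rfl⟩ := exists_mul_of_isSylowIn (autInducedBy_le_autGroup hP.1)
    (automized_receptive hUp hD hP).1.2 hα
  have hle : coprimeGen p (D.autGroup P) ≤ (W F E p).autGroup P :=
    (Subgroup.closure_le _).2 fun a ha => K_le_W (HT_of_sub hE hED.1 hH)
      (mem_coprimeGen (mem_AE_of_index hS hE hDF hED hP.1 ha.1 ha.2) ha.2)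
  exact (mem_autGroup_iff hPS).1
    (mul_mem (hle hx) (autInducedBy_le_autGroup hPS (autInducedBy_mono hUS P hy)))

/-- The hyperfocal subgroup of `W F E p` is in `T`. -/
theorem hyperfocal_W_le : (W F E p).hyperfocalSubgroup p ≤ T := by
  refine (Subgroup.closure_le _).2 ?_
  rintro _ ⟨P, α, x, hP, hα, rfl⟩
  let L : Subgroup ((W F E p).autGroup P) :=
    { carrier := {a | Tr T (a : MulAut P)}
      one_mem' := Tr.one
      mul_mem' := fun ha hb => Tr.mul ha hb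
      inv_mem' := fun ha => Tr.inv ha }
  suffices hle : pResidual p ((W F E p).autGroup P) ≤ L from hle hα x
  refine (Subgroup.closure_le _).2 ?_
  rintro ⟨a, ha⟩ hac
  have hac' : (orderOf a).Coprime p := by
    have h : (orderOf (⟨a, ha⟩ : (W F E p).autGroup P)).Coprime p := hac
    rwa [Subgroup.orderOf_mk] at h
  exact (mem_AE_of_W hS hE hP ha hac').2.1

/-- `E` has `p`-power index in `W F E p`. -/
theorem hasPPowerIndexIn_W : E.HasPPowerIndexIn (W F E p) p := by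
  have hT := hE.1.2.2.2.1
  refine ⟨le_W hS hE hE.1.1 hE.1.2.2.1 (FusionPIndex.hasPPowerIndexIn_self E),
    hyperfocal_W_le hS hE, fun P hP => ?_⟩
  rintro _ ⟨a, ha, rfl⟩
  refine (show coprimeGen p ((W F E p).autGroup P) ≤ E.autGroup P from
    (Subgroup.closure_le _).2 fun g hg => ?_) (coe_mem_coprimeGen_of_pResidual ha)
  obtain ⟨-, -, b, hb, hbg⟩ := mem_AE_of_W hS hE (hP.trans hT.1) hg.1 hg.2
  exact mem_autGroup_of_le_of_eq hP
    (restrict_mem ((mem_autGroup_iff inf_le_right).1 hb) (le_inf le_rfl hP))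
    fun x => hbg ⟨x, x.2, hP x.2⟩

section

variable (hTR : T ≤ R) (hRS : R ≤ S) {D₀ D' : FusionSystem R}
include hTR hRS

/-- The step of the uniqueness proof at a well-placed subgroup. -/
theorem autGroup_le_of_fullyNormalized (hD : D₀.IsSaturated p) (hDF : D₀.IsSubsystemOf F)
    (hED : E.HasPPowerIndexIn D₀ p) (hD' : D'.IsSaturated p) (hDF' : D'.IsSubsystemOf F)
    (hED' : E.HasPPowerIndexIn D' p) (hD'D : D'.IsSubsystemOf D₀)
    (hP : D₀.IsFullyNormalized P)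
    (hP₀ : D'.IsFullyNormalized (P ⊓ T)) (habove : MemAbove D₀ D' P) :
    D₀.autGroup P ≤ D'.autGroup P := by
  intro α hα
  have hTsc := stronglyClosed_of_le hE.1.2.2.2.1 hTR hDF
  have := finite_of_le hRS
  have hRp : IsPGroup p R := hS.to_le hRS
  have hPR := hP.1
  by_cases hH : HT D₀ T P
  swap
  · exact (isIso_of_not_HT hS hE hD hDF hTR hP hH habove hα).mem_autGroup
  have := finite_of_le hPR
  have := finite_mulAut (V := P)
  have hHF := HT_of_sub hE hED.1 hH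
  have hleS : autInducedBy R P ≤ D'.autGroup P := autInducedBy_le_autGroup hPR
  obtain ⟨x, hx, y, hy, rfl⟩ := exists_mul_of_isSylowIn (autInducedBy_le_autGroup hPR)
    (automized_receptive hRp hD hP).1.2 hα
  refine mul_mem ?_ (hleS hy)
  refine (show coprimeGen p (D₀.autGroup P) ≤ D'.autGroup P from
    (Subgroup.closure_le _).2 fun a ⟨haD, hap⟩ => ?_) hx
  obtain ⟨haF, haT, b, hb, hba⟩ := mem_AE_of_index hS hE hDF hED hPR haD hap
  have hbp := hba.coprime hap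
  have hP₀R : P ⊓ T ≤ R := inf_le_left.trans hPR
  have hbD' : IsIso D' b := hED'.1 _ ((mem_autGroup_iff inf_le_right).1 hb)
  -- extension to `P C_R(P ⊓ T)`
  obtain ⟨W₀, hW₀⟩ : ∃ W₀, W₀ = P ⊔ centralizerIn R (P ⊓ T) := ⟨_, rfl⟩
  have hW₀R : W₀ ≤ R := hW₀ ▸ sup_le hPR (centralizerIn_le _ _)
  have := finite_of_le hW₀R
  have := finite_mulAut (V := W₀)
  have hPN : P ≤ Subgroup.normalizer ((P ⊓ T : Subgroup Ω) : Set Ω) := fun r hr =>
    normalizerIn_le_normalizer_inf (R := P) hTsc (le_normalizerIn hPR hr)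
  have hext : W₀ ≤ extender R (P ⊓ T) ((P ⊓ T).subtype.comp b.toMonoidHom) := by
    rw [hW₀]
    refine sup_le (fun r hr => ?_) (centralizerIn_le_extender _)
    refine mem_extender_of_congr ⟨hPR hr, hPN hr⟩
      (α := (P ⊓ T).normalizerMonoidHom ⟨r, hPN hr⟩) (fun _ => rfl) ?_
    refine Subgroup.subset_closure ⟨(a ⟨r, hr⟩ : Ω), hPR (Subtype.mem _), fun q => ?_⟩
    obtain ⟨q', rfl⟩ := b.surjective q
    rw [congr_self_eq, MulAut.mul_apply, MulAut.mul_apply, MulAut.inv_apply_self, ← hba, ← hba q',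
      ← Subgroup.coe_inv, ← Subgroup.coe_mul, ← Subgroup.coe_mul, ← map_inv, ← map_mul, ← map_mul]
    exact congrArg (fun w => (a w : Ω)) (Subtype.ext rfl)
  obtain ⟨-, hP₀r⟩ := automized_receptive hRp hD' hP₀
  obtain ⟨ψ₀, hψ₀, hψ₀v⟩ := exists_extension hP₀r hbD' hext
  have hPW : P ≤ W₀ := hW₀ ▸ le_sup_left
  have hP₀W : P ⊓ T ≤ W₀ := inf_le_left.trans hPW
  -- two maps agreeing on `P ⊓ T` and defined on `r` differ by an element centralizing `P ⊓ T`
  have hdiff : ∀ {Z : Subgroup Ω} (_ : Z ≤ W₀) (φ : Z →* Ω), φ ∈ D'.Hom Z →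
      ∀ hPZ : P ≤ Z, (∀ q : ↥(P ⊓ T), φ ⟨q, hPZ q.2.1⟩ = (b q : Ω)) →
        ∀ r : P, (a r : Ω)⁻¹ * φ ⟨r, hPZ r.2⟩ ∈ centralizerIn R (P ⊓ T) := by
    intro Z _ φ hφ hPZ hv r
    refine mem_centralizerIn'.2 ⟨R.mul_mem (R.inv_mem (hPR (a r).2)) (apply_mem hφ _),
      fun q hq => ?_⟩
    obtain ⟨q', hq'⟩ := b.surjective ⟨q, hq⟩
    have hrq : (r : Ω) * q' * (r : Ω)⁻¹ ∈ P ⊓ T :=
      (Subgroup.mem_normalizer_iff.1 (hPN r.2) q').1 q'.2
    have e1 : φ ⟨r, hPZ r.2⟩ * q * (φ ⟨r, hPZ r.2⟩)⁻¹ = (a r : Ω) * q * (a r : Ω)⁻¹ := by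
      calc φ ⟨r, hPZ r.2⟩ * q * (φ ⟨r, hPZ r.2⟩)⁻¹ = φ ⟨_, hPZ hrq.1⟩ := by
            rw [show q = (b q' : Ω) from (congrArg Subtype.val hq').symm, ← hv q', ← map_inv,
              ← map_mul, ← map_mul]
            rfl
        _ = (b ⟨_, hrq⟩ : Ω) := hv ⟨_, hrq⟩
        _ = (a (r * ⟨q', q'.2.1⟩ * r⁻¹) : Ω) := (hba ⟨_, hrq⟩).symm
        _ = _ := by
          rw [map_mul, map_mul, map_inv, Subgroup.coe_mul, Subgroup.coe_mul, Subgroup.coe_inv,
            hba q', hq']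
    calc (a r : Ω)⁻¹ * φ ⟨r, hPZ r.2⟩ * q * ((a r : Ω)⁻¹ * φ ⟨r, hPZ r.2⟩)⁻¹
        = (a r : Ω)⁻¹ * (φ ⟨r, hPZ r.2⟩ * q * (φ ⟨r, hPZ r.2⟩)⁻¹) * (a r : Ω) := by group
      _ = q := by rw [e1]; group
  have hψ₀W : ∀ w (hw : w ∈ W₀), ψ₀ ⟨w, hw⟩ ∈ W₀ := by
    intro w hw
    have hle : W₀ ≤ (W₀.comap ψ₀).map W₀.subtype := by
      conv_lhs => rw [hW₀]
      refine sup_le (fun r hr => ⟨⟨r, hPW hr⟩, ?_, rfl⟩) fun c hc =>
        ⟨⟨c, hW₀.ge (Subgroup.mem_sup_right hc)⟩, ?_, rfl⟩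
      · have h1 := W₀.mul_mem (hPW (a ⟨r, hr⟩).2) (hW₀.ge (Subgroup.mem_sup_right
          (hdiff le_rfl ψ₀ hψ₀ hPW (fun q => hψ₀v q _) ⟨r, hr⟩)))
        rwa [mul_inv_cancel_left] at h1
      · refine hW₀.ge (Subgroup.mem_sup_right (mem_centralizerIn'.2 ⟨apply_mem hψ₀ _,
          fun q hq => ?_⟩))
        obtain ⟨q', hq'⟩ := b.surjective ⟨q, hq⟩
        rw [show q = (b q' : Ω) from (congrArg Subtype.val hq').symm, ← hψ₀v q' (hP₀W q'.2),
          ← map_inv, ← map_mul, ← map_mul]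
        exact congrArg ψ₀ (Subtype.ext ((mem_centralizerIn'.1 hc).2 q' q'.2))
    obtain ⟨z, hz, hzw⟩ := hle hw
    rwa [show (⟨w, hw⟩ : W₀) = z from Subtype.ext hzw.symm]
  obtain ⟨β₀, hβ₀, hβ₀v⟩ := exists_aut_restrict hψ₀ le_rfl fun w hw => hψ₀W w hw
  have hbβ₀ : Agrees hP₀W b β₀ := fun q => (hβ₀v _).trans (hψ₀v q _)
  obtain ⟨k, hkp, hkb⟩ := FusionLayer.exists_coprime_pow hbp β₀
  have hbβ : Agrees hP₀W b (β₀ ^ k) := by
    have h1 := hbβ₀.pow k
    rwa [hkb] at h1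
  have hβ : β₀ ^ k ∈ D'.autGroup W₀ := pow_mem hβ₀ k
  generalize β₀ ^ k = β at hkp hbβ hβ
  have hβT : Tr T β := (mem_AE_of_index hS hE hDF' hED' hW₀R hβ hkp).2.1
  have hβI : IsIso D' β := (mem_autGroup_iff hW₀R).1 hβ
  have hβP : ∀ r (hr : r ∈ P), (β ⟨r, hPW hr⟩ : Ω) ∈ P := by
    intro r hr
    have h1 : (a ⟨r, hr⟩ : Ω)⁻¹ * (β ⟨r, hPW hr⟩ : Ω) ∈ centralizerIn T (P ⊓ T) := by
      refine ⟨?_, (hdiff le_rfl (W₀.subtype.comp β.toMonoidHom) hβI hPW hbβ ⟨r, hr⟩).2⟩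
      have := mul_mem (inv_mem (haT ⟨r, hr⟩)) (hβT ⟨r, hPW hr⟩)
      rwa [mul_inv_rev, inv_inv, mul_assoc, mul_inv_cancel_left] at this
    have := P.mul_mem (a ⟨r, hr⟩).2 (hH.2 _ (isConj_refl hP₀R) h1).1
    rwa [mul_inv_cancel_left] at this
  obtain ⟨a', ha', ha'v⟩ := exists_aut_restrict hβI hPW hβP
  have ha'v' : ∀ r : P, (a' r : Ω) = (β ⟨r, hPW r.2⟩ : Ω) := fun r => ha'v r
  have hk : a'⁻¹ * a ∈ K2 D₀ T P := by
    have ha'D : a' ∈ D₀.autGroup P :=
      (mem_autGroup_iff hPR).2 (hD'D _ ((mem_autGroup_iff hPR).1 ha'))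
    refine ⟨mul_mem (inv_mem ha'D) haD, Tr.mul (Tr.inv fun r => ?_) haT, fun r hr => ?_⟩
    · rw [ha'v']
      exact hβT ⟨r, hPW r.2⟩
    · rw [MulAut.mul_apply, show a r = a' r from Subtype.ext ((hba ⟨r, r.2, hr⟩).trans
        ((ha'v' r).trans (hbβ ⟨r, r.2, hr⟩)).symm), MulAut.inv_apply_self]
  have h2 := mul_mem ha' (hleS (K2Inn_le_autInducedBy hRp hD hTsc hP (Subgroup.mem_sup_left hk)))
  rwa [mul_inv_cancel_left] at h2

/-- **Uniqueness.** -/
theorem hom_eq (hD : D₀.IsSaturated p) (hDW : D₀.HasPPowerIndexIn (W F E p) p)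
    (hED : E.HasPPowerIndexIn D₀ p) (hD' : D'.IsSaturated p) (hDF' : D'.IsSubsystemOf F)
    (hED' : E.HasPPowerIndexIn D' p) (P : Subgroup Ω) : D'.Hom P = D₀.Hom P := by
  have := finite_of_le hRS
  have hRp : IsPGroup p R := hS.to_le hRS
  have hDF : D₀.IsSubsystemOf F := fun Q φ h => W_le Q (hDW.1 Q h)
  have h1 : D'.IsSubsystemOf D₀ := FusionPIndex.isSubsystemOf_of_pResidual hRp hD' le_rfl
    fun Q hQ => (FusionPIndex.pResidual_autGroup_mono (le_W hS hE hD' hDF' hED') hQ).trans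
      (hDW.2.2 Q hQ)
  have h2 : D₀.IsSubsystemOf D' := by
    refine isSubsystemOf_of_aut hRp hD fun P hP habove α hα => ?_
    obtain ⟨P₁, hc, hP₁, hP₁₀⟩ := exists_goodRep hRp hD'
      (stronglyClosed_of_le hE.1.2.2.2.1 hTR hDF') hP.1
    obtain ⟨w, hw⟩ := isConj_iff.1 hc
    have hwD : IsIso D₀ w := h1 _ hw
    have hP₁D : D₀.IsFullyNormalized P₁ :=
      fullyNormalized_of_card hP hwD.isConj (hP₁.2 P (isConj_symm hc))
    have habove₁ : MemAbove D₀ D' P₁ := fun Z hZ φ hφ =>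
      habove Z (hw.card_eq.trans_lt hZ) φ hφ
    have h3 := congr_mem_autGroup hw.symm (autGroup_le_of_fullyNormalized hS hE hTR hRS hD hDF
      hED hD' hDF' hED' h1 hP₁D hP₁₀ habove₁ (congr_mem_autGroup hwD hα))
    rw [congr_symm_congr] at h3
    exact (mem_autGroup_iff hP.1).1 h3
  exact Set.Subset.antisymm (h1 P) (h2 P)

/-- **Existence.** -/
theorem exists_product : ∃ D₁ : FusionSystem R, D₁.IsSaturated p ∧
    D₁.HasPPowerIndexIn (W F E p) p ∧ E.HasPPowerIndexIn D₁ p := by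
  have := finite_of_le hRS
  have hEW := hasPPowerIndexIn_W hS hE
  obtain ⟨D₁, hD₁, hD₁W⟩ := PPowerIndex.exists_pPowerIndex (Nat.card S) hS (W F E p)
    (W_isSaturated hS hE) R hRS (hEW.2.1.trans hTR) (Nat.le_add_left _ _)
  have := finite_of_le (hTR.trans hRS)
  refine ⟨D₁, hD₁, hD₁W, ?_, (FusionPIndex.hyperfocal_mono hD₁W.1).trans hEW.2.1, fun Q hQ =>
    (FusionPIndex.pResidual_autGroup_mono hD₁W.1 (hQ.trans hTR)).trans (hEW.2.2 Q hQ)⟩
  exact FusionPIndex.isSubsystemOf_of_pResidual (hS.to_le (hTR.trans hRS)) hE.1.1 hTR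
    fun Q hQ => (FusionPIndex.pResidual_autGroup_mono hEW.1 hQ).trans (hD₁W.2.2 Q (hQ.trans hTR))

end

end CfsgLib.FusionComponents.Henke
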